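import Mathlib
import Cfsg.Agent.Lib.Grp.Coprime
import Cfsg.Agent.Lib.Transfer.Elements

/-!
# Generalities for groups in which a prime divides every mixed subgroup

Orbits of elements of prime power order on a subgroup, Burnside transfer inside a subgroup,
and recognition of prime power groups.
-/

namespace Cfsg.Agent.Grp.MixedPrimes

open Subgroup

variable {G : Type*} [Group G]

theorem isPGroup_of_primes [Finite G] {p : ℕ} {H : Subgroup G}
    (h : ∀ l : ℕ, l.Prime → l ∣ Nat.card H → l = p) : IsPGroup p H :=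
  IsPGroup.of_card (Nat.eq_prime_pow_of_unique_prime_dvd Nat.card_pos.ne' (h _))

theorem isPGroup_zpowers [Finite G] {p k : ℕ} {g : G} (h : orderOf g = p ^ k) :
    IsPGroup p (Subgroup.zpowers g) :=
  IsPGroup.of_card ((Nat.card_zpowers g).trans h)

theorem exists_orderOf_eq [Finite G] {p : ℕ} [Fact p.Prime] {H : Subgroup G} (hH : IsPGroup p H)
    {x : G} (hx : x ∈ H) : ∃ k, orderOf x = p ^ k := by
  obtain ⟨k, hk⟩ := IsPGroup.iff_orderOf.mp hH ⟨x, hx⟩
  exact ⟨k, by rw [← hk, Subgroup.orderOf_mk]⟩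

/-- Two elements of prime power order for distinct primes only share the identity. -/
theorem eq_one_of_orders {p q i j : ℕ} (hp : p.Prime) (hq : q.Prime) (hpq : p ≠ q) {x : G}
    (h1 : orderOf x ∣ p ^ i) (h2 : orderOf x ∣ q ^ j) : x = 1 :=
  orderOf_eq_one_iff.mp (Nat.eq_one_of_dvd_coprimes
    (((Nat.coprime_primes hp hq).mpr hpq).pow i j) h1 h2)

theorem orderOf_conj (g x : G) : orderOf (g * x * g⁻¹) = orderOf x :=
  (MulAut.conj g).orderOf_eq x

/-- An element of order a power of `p` which moves an element of `U` has an orbit of size at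
least `p` on `U`, and is transitive on `U - 1` if `|U| = p + 1`. -/
theorem orbit_cases [Finite G] {p : ℕ} [hp : Fact p.Prime] {U : Subgroup G} {g u : G} {k : ℕ}
    (hg : orderOf g = p ^ k) (hgU : g ∈ normalizer (U : Set G)) (hu : u ∈ U)
    (hmove : g * u * g⁻¹ ≠ u) :
    p + 1 ≤ Nat.card U ∧
      (Nat.card U = p + 1 → ∀ w ∈ U, w ≠ 1 → ∃ n : ℤ, g ^ n * u * (g ^ n)⁻¹ = w) := by
  classical
  let _ : MulAction (Subgroup.zpowers g) G :=
    MulAction.compHom G ((MulAut.conj : G →* MulAut G).comp (Subgroup.zpowers g).subtype)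
  have hsmul : ∀ (a : Subgroup.zpowers g) (x : G), a • x = (a : G) * x * (a : G)⁻¹ :=
    fun a x => rfl
  set O : Set G := MulAction.orbit (Subgroup.zpowers g) u with hO
  have hu1 : u ≠ 1 := fun h => hmove (by rw [h]; group)
  have hsub : O ⊆ (U : Set G) \ {1} := by
    rintro x ⟨a, rfl⟩
    show a • u ∈ (U : Set G) \ {1}
    rw [hsmul]
    refine ⟨?_, fun h => hu1 ?_⟩
    · obtain ⟨n, hn⟩ := Subgroup.mem_zpowers_iff.mp a.2
      exact (Subgroup.mem_set_normalizer_iff.mp (by rw [← hn]; exact zpow_mem hgU n) u).mp hu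
    · rw [Set.mem_singleton_iff, conj_eq_one_iff] at h
      exact h
  have hcardU : ((U : Set G) \ {1}).ncard + 1 = Nat.card U := by
    rw [Set.ncard_diff_singleton_add_one U.one_mem]
    exact (Nat.card_coe_set_eq (U : Set G)).symm
  have hp2 : p ≤ O.ncard := by
    obtain ⟨n, hn⟩ := (isPGroup_zpowers hg).card_orbit u
    rw [Nat.card_coe_set_eq, ← hO] at hn
    rw [hn]
    rcases Nat.eq_zero_or_pos n with h0 | h0
    · exfalso
      rw [h0, pow_zero, Set.ncard_eq_one] at hn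
      obtain ⟨x, hx⟩ := hn
      have h1 : u ∈ O := MulAction.mem_orbit_self u
      have h2 : g * u * g⁻¹ ∈ O := ⟨⟨g, mem_zpowers g⟩, rfl⟩
      rw [hx, Set.mem_singleton_iff] at h1 h2
      exact hmove (h2.trans h1.symm)
    · exact Nat.le_self_pow h0.ne' p
  have hle := Set.ncard_le_ncard hsub (Set.toFinite _)
  refine ⟨by omega, fun hc w hw hw1 => ?_⟩
  have heq : O = (U : Set G) \ {1} :=
    Set.eq_of_subset_of_ncard_le hsub (by omega) (Set.toFinite _)
  have hwO : w ∈ O := by rw [heq]; exact ⟨hw, hw1⟩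
  obtain ⟨a, ha⟩ := hwO
  obtain ⟨n, hn⟩ := Subgroup.mem_zpowers_iff.mp a.2
  exact ⟨n, by rw [← ha]; show _ = a • u; rw [hsmul, ← hn]⟩

/-- Burnside transfer inside a subgroup `H`. -/
theorem exists_complement_in [Finite G] {l : ℕ} [hl : Fact l.Prime] {H S : Subgroup G}
    (hS : IsSylowIn l S H)
    (hcent : ∀ h ∈ H, h ∈ normalizer (S : Set G) → ∀ s ∈ S, h * s = s * h) :
    ∃ O : Subgroup G, O ≤ H ∧ H ≤ normalizer (O : Set G) ∧ ¬ l ∣ Nat.card O ∧
      ∀ x ∈ H, ¬ l ∣ orderOf x → x ∈ O := by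
  obtain ⟨P, hPe⟩ := isSylowIn_iff.mp hS
  have hP : normalizer ((P : Subgroup H) : Set H) ≤ centralizer ((P : Subgroup H) : Set H) := by
    intro x hx
    rw [Subgroup.mem_centralizer_iff]
    intro s hs
    have hsS : (s : G) ∈ S := by rw [← hPe]; exact Subgroup.mem_map_of_mem _ hs
    have hxS : (x : G) ∈ normalizer (S : Set G) := by
      rw [Subgroup.mem_set_normalizer_iff]
      intro t
      rw [← hPe]
      constructor
      · rintro ⟨t', ht', rfl⟩
        exact ⟨x * t' * x⁻¹, (Subgroup.mem_set_normalizer_iff.mp hx t').mp ht', by simp⟩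
      · rintro ⟨t', ht', e⟩
        refine ⟨x⁻¹ * t' * x, ?_, ?_⟩
        · have := (Subgroup.mem_set_normalizer_iff.mp (inv_mem hx) t').mp ht'
          rwa [inv_inv] at this
        · simp only [Subgroup.coe_subtype, Subgroup.coe_mul, InvMemClass.coe_inv] at e ⊢
          rw [e]; group
    exact Subtype.ext (hcent x x.2 hxS s hsS).symm
  obtain ⟨K, hKn, hc⟩ : ∃ K : Subgroup H, K.Normal ∧ K.IsComplement' (P : Subgroup H) :=
    ⟨_, MonoidHom.normal_ker _, MonoidHom.ker_transferSylow_isComplement' P hP⟩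
  have hidx : ∃ n, K.index = l ^ n := by
    obtain ⟨n, hn⟩ := IsPGroup.iff_card.mp P.isPGroup'
    exact ⟨n, by rw [hc.symm.index_eq_card]; exact hn⟩
  have hnd : ¬ l ∣ Nat.card K := by
    rw [← hc.index_eq_card]
    exact P.not_dvd_index
  refine ⟨K.map H.subtype, map_subtype_le K, ?_, ?_, ?_⟩
  · intro x hx
    rw [Subgroup.mem_set_normalizer_iff]
    intro t
    constructor
    · rintro ⟨t', ht', rfl⟩
      exact ⟨⟨x, hx⟩ * t' * ⟨x, hx⟩⁻¹, hKn.conj_mem t' ht' _, by simp⟩
    · rintro ⟨t', ht', e⟩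
      refine ⟨⟨x, hx⟩⁻¹ * t' * ⟨x, hx⟩, ?_, ?_⟩
      · have := hKn.conj_mem t' ht' ⟨x, hx⟩⁻¹
        rwa [inv_inv] at this
      · simp only [Subgroup.coe_subtype, Subgroup.coe_mul, InvMemClass.coe_inv] at e ⊢
        rw [e]; group
  · rwa [Subgroup.card_map_of_injective (Subgroup.subtype_injective _)]
  · intro x hx hxl
    obtain ⟨n, hn⟩ := hidx
    have hpm : (⟨x, hx⟩ : H) ^ K.index ∈ K := K.pow_index_mem _
    rw [hn] at hpm
    have := Transfer.mem_of_pow_mem hpm (by
      rw [Subgroup.orderOf_mk]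
      exact (Nat.Coprime.pow_right _ (hl.out.coprime_iff_not_dvd.mpr hxl).symm))
    exact ⟨⟨x, hx⟩, this, rfl⟩

end Cfsg.Agent.Grp.MixedPrimes
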