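import Mathlib
import Cfsg.Prelude.Def_Transfer
import Cfsg.Agent.Lib.Grp.MixedPrimes.Basic
import Cfsg.Agent.Lib.Transfer.Frobenius
import Cfsg.Agent.Lib.Grp.Basic

/-!
# Reduction for groups in which `p` divides every mixed proper subgroup

A counterexample of least order to `π(G) = {p, q}` (for `p ≥ q^a - 1`) is a simple group with
elementary abelian Sylow `2`-subgroups of order `p + 1`, described by `Ctx`.
-/

namespace Cfsg.Agent.Grp.MixedPrimes

open Subgroup

universe u

/-- A least counterexample to the theorem. -/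
structure Ctx (G : Type u) [Group G] (p : ℕ) : Prop where
  hp : p.Prime
  hp2 : p ≠ 2
  other : ∃ r : ℕ, r.Prime ∧ r ∣ Nat.card G ∧ r ≠ p ∧ r ≠ 2
  even : 2 ∣ Nat.card G
  dvd : p ∣ Nat.card G
  proper : ∀ H : Subgroup G, H ≠ ⊤ → 2 ∣ Nat.card H →
    ∀ l : ℕ, l.Prime → l ∣ Nat.card H → l = 2 ∨ l = p
  odd : ∀ (K : Subgroup G) (t : G), orderOf t = 2 → t ∈ normalizer (K : Set G) →
    ¬ 2 ∣ Nat.card K → IsPGroup p K
  comm : ∀ H : Subgroup G, IsPGroup p H → ∀ x ∈ H, ∀ y ∈ H, x * y = y * x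
  cardQ : ∀ Q : Sylow 2 G, Nat.card Q = p + 1
  sq : ∀ (Q : Sylow 2 G), ∀ x ∈ (Q : Subgroup G), x * x = 1
  trans : ∀ (Q : Sylow 2 G), ∀ s ∈ (Q : Subgroup G), ∀ s' ∈ (Q : Subgroup G), s ≠ 1 → s' ≠ 1 →
    ∃ h ∈ normalizer ((Q : Subgroup G) : Set G), (∃ k, orderOf h = p ^ k) ∧ h * s * h⁻¹ = s'
  simple : ∀ N : Subgroup G, N.Normal → N = ⊥ ∨ N = ⊤
  notAbelian : center G = ⊥

variable {G : Type u} [Group G] [Finite G] {p q : ℕ}

/-- No mixed subgroup which is the product of an `l`-group and a `q`-group. -/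
theorem no_mixed (hp : p.Prime) (hq : q.Prime) (hpq : p ≠ q) (hpG : p ∣ Nat.card G)
    (hmix : ∀ H : Subgroup G, H ≠ ⊤ → ¬ IsPGroup q H → q ∣ Nat.card H → p ∣ Nat.card H)
    {l : ℕ} (hl : l.Prime) (hlp : l ≠ p) (hlq : l ≠ q) {X A : Subgroup G} (hX : IsPGroup l X)
    (hA : IsPGroup q A) (hX1 : X ≠ ⊥) (hA1 : A ≠ ⊥)
    (hnorm : A ≤ normalizer (X : Set G) ∨ X ≤ normalizer (A : Set G)) : False := by
  have := Fact.mk hl
  have := Fact.mk hq
  obtain ⟨i, hi⟩ := IsPGroup.iff_card.mp hX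
  obtain ⟨j, hj⟩ := IsPGroup.iff_card.mp hA
  have hcop : (Nat.card X).Coprime (Nat.card A) := by
    rw [hi, hj]; exact ((Nat.coprime_primes hl hq).mpr hlq).pow i j
  have hcard : Nat.card (X ⊔ A : Subgroup G) = Nat.card X * Nat.card A := by
    rcases hnorm with h | h
    · rw [sup_comm, Grp.card_sup_coprime h hcop.symm, mul_comm]
    · exact Grp.card_sup_coprime h hcop
  rw [hi, hj] at hcard
  have hpnot : ¬ p ∣ Nat.card (X ⊔ A : Subgroup G) := by
    rw [hcard, hp.dvd_mul, not_or]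
    exact ⟨fun h => hlp ((Nat.prime_dvd_prime_iff_eq hp hl).mp (hp.dvd_of_dvd_pow h)).symm,
      fun h => hpq ((Nat.prime_dvd_prime_iff_eq hp hq).mp (hp.dvd_of_dvd_pow h))⟩
  refine hpnot (hmix _ (fun h => hpnot (by rw [h, Subgroup.card_top]; exact hpG)) (fun h => ?_) ?_)
  · obtain ⟨n, hn⟩ := IsPGroup.iff_card.mp (h.to_le (le_sup_left : X ≤ X ⊔ A))
    exact hX1 (Subgroup.card_eq_one.mp (Nat.eq_one_of_dvd_coprimes
      (((Nat.coprime_primes hl hq).mpr hlq).pow i n) (dvd_of_eq hi) (dvd_of_eq hn)))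
  · rcases Nat.eq_zero_or_pos j with h0 | h0
    · rw [h0, pow_zero] at hj; exact absurd (Subgroup.card_eq_one.mp hj) hA1
    · rw [hcard]; exact dvd_mul_of_dvd_right (dvd_pow_self q h0.ne') _

/-- A `q'`-subgroup normalised by a nontrivial `q`-subgroup is a `p`-group. -/
theorem isPGroup_of_normalized (hp : p.Prime) (hq : q.Prime) (hpq : p ≠ q)
    (hpG : p ∣ Nat.card G)
    (hmix : ∀ H : Subgroup G, H ≠ ⊤ → ¬ IsPGroup q H → q ∣ Nat.card H → p ∣ Nat.card H)
    {K A : Subgroup G} (hA : IsPGroup q A) (hA1 : A ≠ ⊥) (hAK : A ≤ normalizer (K : Set G))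
    (hK : ¬ q ∣ Nat.card K) : IsPGroup p K := by
  refine isPGroup_of_primes fun l hl hdvd => ?_
  by_contra hlp
  have := Fact.mk hl
  have := Fact.mk hq
  have hlq : l ≠ q := fun h => hK (h ▸ hdvd)
  obtain ⟨j, hj⟩ := IsPGroup.iff_card.mp hA
  have hAs : Group.IsSolvable A := by
    have := hA.isNilpotent
    infer_instance
  obtain ⟨X, hX, hAX⟩ := Grp.exists_invariant_sylow A K hAK (by
    rw [hj]; exact Nat.Coprime.pow_left _ (hq.coprime_iff_not_dvd.mpr hK)) (Or.inl hAs) l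
  refine no_mixed hp hq hpq hpG hmix hl hlp hlq hX.2.1 hA ?_ hA1 (Or.inl hAX)
  intro hb
  exact hX.2.2 (by rw [hb, Subgroup.relIndex_bot_left]; exact hdvd)

/-- Some element of `p`-power order moves an element of a `q`-subgroup it normalises. -/
theorem exists_moving (hp : p.Prime) (hq : q.Prime) (hpq : p ≠ q) (hpG : p ∣ Nat.card G)
    (hqG : q ∣ Nat.card G)
    (hmix : ∀ H : Subgroup G, H ≠ ⊤ → ¬ IsPGroup q H → q ∣ Nat.card H → p ∣ Nat.card H)
    {r : ℕ} (hr : r.Prime) (hrG : r ∣ Nat.card G) (hrp : r ≠ p) (hrq : r ≠ q) :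
    ∃ (U : Subgroup G) (g u : G) (k : ℕ), IsPGroup q U ∧ orderOf g = p ^ k ∧
      g ∈ normalizer (U : Set G) ∧ u ∈ U ∧ g * u * g⁻¹ ≠ u := by
  have := Fact.mk hq
  have := Fact.mk hp
  have := Fact.mk hr
  by_contra hno
  push Not at hno
  obtain ⟨S⟩ : Nonempty (Sylow q G) := inferInstance
  have hF : Transfer.FrobeniusCondition q (S : Subgroup G) := by
    intro U hU g hg hgc
    rcases eq_or_ne U ⊥ with hb | hb
    · rw [hb]; intro x hx; rw [Subgroup.mem_bot.mp hx]; simp
    refine Transfer.prime_parts g _ fun l hl y hy hyg => ?_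
    obtain ⟨k, hk⟩ := hy
    have hUq : IsPGroup q U := S.isPGroup'.to_le hU
    have hyN : y ∈ normalizer (U : Set G) := by
      obtain ⟨n, hn⟩ := Subgroup.mem_zpowers_iff.mp hyg
      rw [← hn]; exact zpow_mem hg n
    by_cases hlp : l = p
    · subst hlp
      rw [Subgroup.mem_centralizer_iff]
      intro u hu
      have h2 := hno U y u k hUq hk hyN hu
      exact (mul_inv_eq_iff_eq_mul.mp h2).symm
    · suffices h1 : y = 1 by rw [h1]; exact one_mem _
      by_contra hy1
      by_cases hlq : l = q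
      · subst hlq
        have hd : orderOf y ∣ orderOf g := by
          obtain ⟨n, hn⟩ := Subgroup.mem_zpowers_iff.mp hyg
          rw [← hn]; exact orderOf_dvd_of_mem_zpowers (zpow_mem (mem_zpowers g) n)
        exact hy1 (orderOf_eq_one_iff.mp (Nat.eq_one_of_dvd_coprimes
          (Nat.Coprime.pow_right k hgc) hd (dvd_of_eq hk)))
      · exact no_mixed hp hq hpq hpG hmix hl hlp hlq (isPGroup_zpowers hk) hUq
          (fun h => hy1 (Subgroup.zpowers_eq_bot.mp h)) hb
          (Or.inr (Subgroup.zpowers_le.mpr hyN))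
  obtain ⟨P, N, hN, hNc⟩ := (Transfer.hasNormalPComplement_iff_frobeniusCondition S).mpr hF
  have hP1 : (P : Subgroup G) ≠ ⊥ := P.ne_bot_of_dvd_card hqG
  have hNq : ¬ q ∣ Nat.card N := by
    rw [← hNc.index_eq_card]; exact P.not_dvd_index
  have hNp : IsPGroup p N := isPGroup_of_normalized hp hq hpq hpG hmix P.isPGroup' hP1
    (fun x _ => by rw [Subgroup.normalizer_eq_top]; trivial) hNq
  obtain ⟨i, hi⟩ := IsPGroup.iff_card.mp hNp
  obtain ⟨j, hj⟩ := IsPGroup.iff_card.mp P.isPGroup'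
  have := hNc.card_mul_card
  rw [hi] at this
  rw [← this, hr.dvd_mul] at hrG
  rcases hrG with h | h
  · exact hrp ((Nat.prime_dvd_prime_iff_eq hr hp).mp (hr.dvd_of_dvd_pow h))
  · rw [hj] at h
    exact hrq ((Nat.prime_dvd_prime_iff_eq hr hq).mp (hr.dvd_of_dvd_pow h))

/-- With the Sylow `p`-subgroup normal, a complement would be mixed without `p`. -/
theorem sylow_not_normal (hp : p.Prime) (hq : q.Prime) (hpq : p ≠ q) (hpG : p ∣ Nat.card G)
    (hqG : q ∣ Nat.card G)
    (hmix : ∀ H : Subgroup G, H ≠ ⊤ → ¬ IsPGroup q H → q ∣ Nat.card H → p ∣ Nat.card H)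
    {r : ℕ} (hr : r.Prime) (hrG : r ∣ Nat.card G) (hrp : r ≠ p) (hrq : r ≠ q)
    [Fact p.Prime] (P : Sylow p G) : ¬ (P : Subgroup G).Normal := by
  intro hn
  obtain ⟨C, hC⟩ := Subgroup.exists_right_complement'_of_coprime (N := (P : Subgroup G))
    P.card_coprime_index
  obtain ⟨i, hi⟩ := IsPGroup.iff_card.mp P.isPGroup'
  have hpC : ¬ p ∣ Nat.card C := by rw [← hC.symm.index_eq_card]; exact P.not_dvd_index
  have hmul := hC.card_mul_card
  rw [hi] at hmul
  have hd : ∀ l : ℕ, l.Prime → l ≠ p → l ∣ Nat.card G → l ∣ Nat.card C := by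
    intro l hl hlp h
    rw [← hmul, hl.dvd_mul] at h
    exact h.resolve_left fun h => hlp ((Nat.prime_dvd_prime_iff_eq hl hp).mp (hl.dvd_of_dvd_pow h))
  refine hpC (hmix C (fun h => hpC (by rw [h, Subgroup.card_top]; exact hpG)) ?_
    (hd q hq hpq.symm hqG))
  intro h
  have := Fact.mk hq
  obtain ⟨j, hj⟩ := IsPGroup.iff_card.mp h
  have h2 := hd r hr hrp hrG
  rw [hj] at h2
  exact hrq ((Nat.prime_dvd_prime_iff_eq hr hq).mp (hr.dvd_of_dvd_pow h2))

/-- The hypotheses with a third prime divisor, and the conclusion for proper subgroups, give a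
context. -/
theorem ctx_of_counterexample (hp : p.Prime) (hq : q.Prime) (hpq : p ≠ q) (hp2 : p ≠ 2)
    (hpG : p ∣ Nat.card G) (hqG : q ∣ Nat.card G)
    (hmix : ∀ H : Subgroup G, H ≠ ⊤ → ¬ IsPGroup q H → q ∣ Nat.card H → p ∣ Nat.card H)
    (hlarge : q ^ (Nat.card G).factorization q - 1 < p ∨
      (p = q ^ (Nat.card G).factorization q - 1 ∧ ∀ P : Sylow p G, IsMulCommutative P))
    {r : ℕ} (hr : r.Prime) (hrG : r ∣ Nat.card G) (hrp : r ≠ p) (hrq : r ≠ q)
    (ih : ∀ H : Subgroup G, H ≠ ⊤ → p ∣ Nat.card H → q ∣ Nat.card H →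
      (∀ P : Subgroup G, IsPGroup p P → ∀ x ∈ P, ∀ y ∈ P, x * y = y * x) →
      ∀ l : ℕ, l.Prime → l ∣ Nat.card H → l = p ∨ l = q) :
    q = 2 ∧ Ctx G p := by
  have := Fact.mk hq
  have := Fact.mk hp
  obtain ⟨U, g, u, k, hU, hg, hgU, hu, hmove⟩ := exists_moving hp hq hpq hpG hqG hmix hr hrG hrp hrq
  obtain ⟨S, hUS⟩ := hU.exists_le_sylow
  have hSc : Nat.card S = q ^ (Nat.card G).factorization q := S.card_eq_multiplicity
  have h1 := (orbit_cases hg hgU hu hmove).1
  have h2 : Nat.card U ≤ Nat.card S := Nat.le_of_dvd Nat.card_pos (Subgroup.card_dvd_of_le hUS)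
  rcases hlarge with hl | ⟨hl, hab⟩
  · omega
  have h3 : Nat.card S = p + 1 := by omega
  have h4 : Nat.card U = p + 1 := by omega
  have hUSe : U = S := Subgroup.eq_of_le_of_card_ge hUS (by omega)
  have hq2 : q = 2 := by
    have : 2 ∣ Nat.card S := by
      rw [h3]; obtain ⟨m, hm⟩ := hp.odd_of_ne_two hp2; omega
    rw [hSc] at this
    exact ((Nat.prime_dvd_prime_iff_eq Nat.prime_two hq).mp
      (Nat.prime_two.dvd_of_dvd_pow this)).symm
  subst hq2
  refine ⟨rfl, ?_⟩
  have hcomm : ∀ H : Subgroup G, IsPGroup p H → ∀ x ∈ H, ∀ y ∈ H, x * y = y * x := by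
    intro H hH x hx y hy
    obtain ⟨P, hP⟩ := hH.exists_le_sylow
    exact congrArg Subtype.val ((hab P).is_comm.comm ⟨x, hP hx⟩ ⟨y, hP hy⟩)
  have hproper : ∀ H : Subgroup G, H ≠ ⊤ → 2 ∣ Nat.card H →
      ∀ l : ℕ, l.Prime → l ∣ Nat.card H → l = 2 ∨ l = p := by
    intro H hH h2H l hl hlH
    by_cases hpH : p ∣ Nat.card H
    · exact (ih H hH hpH h2H hcomm l hl hlH).symm
    · left
      have h2g : IsPGroup 2 H := by
        by_contra h
        exact hpH (hmix H hH h h2H)
      obtain ⟨n, hn⟩ := IsPGroup.iff_card.mp h2g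
      rw [hn] at hlH
      exact (Nat.prime_dvd_prime_iff_eq hl Nat.prime_two).mp (hl.dvd_of_dvd_pow hlH)
  have hodd : ∀ (K : Subgroup G) (t : G), orderOf t = 2 → t ∈ normalizer (K : Set G) →
      ¬ 2 ∣ Nat.card K → IsPGroup p K := fun K t ht htK hK =>
    isPGroup_of_normalized hp Nat.prime_two hpq hpG hmix
      (isPGroup_zpowers (k := 1) (by rw [pow_one, ht]))
      (fun h => by rw [Subgroup.zpowers_eq_bot.mp h, orderOf_one] at ht; omega)
      (Subgroup.zpowers_le.mpr htK) hK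
  -- all nonidentity elements of `U` are conjugate, so of order two
  have htr : ∀ s ∈ U, ∀ s' ∈ U, s ≠ 1 → s' ≠ 1 →
      ∃ n : ℤ, g ^ n * s * (g ^ n)⁻¹ = s' := by
    intro s hs s' hs' h1s h1s'
    have hor := (orbit_cases hg hgU hu hmove).2 h4
    obtain ⟨a, ha⟩ := hor s hs h1s
    obtain ⟨b, hb⟩ := hor s' hs' h1s'
    exact ⟨b - a, by rw [← ha, ← hb, zpow_sub]; group⟩
  have hsqU : ∀ x ∈ U, x * x = 1 := by
    intro x hx
    rcases eq_or_ne x 1 with h | h
    · rw [h, one_mul]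
    obtain ⟨⟨s, hs⟩, hs2⟩ := exists_prime_orderOf_dvd_card' (G := U) 2
      (by rw [h4]; obtain ⟨m, hm⟩ := hp.odd_of_ne_two hp2; omega)
    rw [Subgroup.orderOf_mk] at hs2
    have hs1 : s ≠ 1 := fun e => by rw [e, orderOf_one] at hs2; omega
    obtain ⟨n, hn⟩ := htr s hs x hx hs1 h
    have := pow_orderOf_eq_one s
    rw [hs2, sq] at this
    rw [← hn]
    calc g ^ n * s * (g ^ n)⁻¹ * (g ^ n * s * (g ^ n)⁻¹)
        = g ^ n * (s * s) * (g ^ n)⁻¹ := by group
      _ = 1 := by rw [this]; group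
  have hconj : ∀ Q : Sylow 2 G, ∃ c : G, ∀ x, x ∈ (Q : Subgroup G) ↔ c⁻¹ * x * c ∈ U := by
    intro Q
    obtain ⟨c, hc⟩ := MulAction.exists_smul_eq G S Q
    refine ⟨c, fun x => ?_⟩
    rw [← hc, hUSe, Sylow.coe_subgroup_smul, Subgroup.mem_pointwise_smul_iff_inv_smul_mem]
    simp [MulAut.smul_def]
  have heven : 2 ∣ Nat.card G := hqG
  refine ⟨hp, hp2, ⟨r, hr, hrG, hrp, hrq⟩, heven, hpG, hproper, hodd, hcomm, fun Q => ?_,
    fun Q x hx => ?_, fun Q s hs s' hs' h1s h1s' => ?_, ?_, ?_⟩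
  · rw [Q.card_eq_multiplicity, ← hSc, h3]
  · obtain ⟨c, hc⟩ := hconj Q
    have := hsqU _ ((hc x).mp hx)
    calc x * x = c * (c⁻¹ * x * c * (c⁻¹ * x * c)) * c⁻¹ := by group
      _ = 1 := by rw [this]; group
  · obtain ⟨c, hc⟩ := hconj Q
    obtain ⟨n, hn⟩ := htr _ ((hc s).mp hs) _ ((hc s').mp hs')
      (fun e => h1s (by rw [show s = c * (c⁻¹ * s * c) * c⁻¹ by group, e]; group))
      (fun e => h1s' (by rw [show s' = c * (c⁻¹ * s' * c) * c⁻¹ by group, e]; group))
    refine ⟨c * g ^ n * c⁻¹, ?_, ?_, ?_⟩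
    · rw [Subgroup.mem_set_normalizer_iff]
      intro x
      rw [SetLike.mem_coe, SetLike.mem_coe, hc, hc,
        show c⁻¹ * (c * g ^ n * c⁻¹ * x * (c * g ^ n * c⁻¹)⁻¹) * c
          = g ^ n * (c⁻¹ * x * c) * (g ^ n)⁻¹ by group]
      exact Subgroup.mem_set_normalizer_iff.mp (zpow_mem hgU n) _
    · rw [orderOf_conj]
      obtain ⟨i, -, hi⟩ := (Nat.dvd_prime_pow hp).mp
        ((orderOf_dvd_of_mem_zpowers (zpow_mem (mem_zpowers g) n)).trans (dvd_of_eq hg))
      exact ⟨i, hi⟩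
    · calc c * g ^ n * c⁻¹ * s * (c * g ^ n * c⁻¹)⁻¹
          = c * (g ^ n * (c⁻¹ * s * c) * (g ^ n)⁻¹) * c⁻¹ := by group
        _ = s' := by rw [hn]; group
  -- proper normal subgroups are `p`-groups
  all_goals
    obtain ⟨P⟩ : Nonempty (Sylow p G) := inferInstance
    have hPn := sylow_not_normal hp Nat.prime_two hpq hpG hqG hmix hr hrG hrp hrq P
    have hS1 : (S : Subgroup G) ≠ ⊥ := S.ne_bot_of_dvd_card hqG
    have hnp : ∀ N : Subgroup G, N.Normal → N ≠ ⊤ → IsPGroup p N := by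
      intro N hN hNt
      by_cases h2N : 2 ∣ Nat.card N
      · exfalso
        obtain ⟨T⟩ : Nonempty (Sylow 2 N) := inferInstance
        have hT1 : (T : Subgroup N) ≠ ⊥ := T.ne_bot_of_dvd_card h2N
        have htop := Sylow.normalizer_sup_eq_top T
        set T' := (T : Subgroup N).map N.subtype with hT'
        have hrN : r ∣ Nat.card (normalizer (T' : Set G)) := by
          have hd := Grp.card_sup_dvd_mul (H := normalizer (T' : Set G)) (N := N)
            (fun x _ => by rw [Subgroup.normalizer_eq_top]; trivial)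
          rw [htop, Subgroup.card_top] at hd
          refine ((Nat.Prime.dvd_mul hr).mp (hrG.trans hd)).resolve_right fun h => ?_
          rcases hproper N hNt h2N r hr h with h | h
          · exact hrq h
          · exact hrp h
        have := Fact.mk hr
        obtain ⟨⟨y, hy⟩, hyr⟩ := exists_prime_orderOf_dvd_card' r hrN
        rw [Subgroup.orderOf_mk] at hyr
        refine no_mixed hp Nat.prime_two hpq hpG hmix hr hrp hrq
          (isPGroup_zpowers (k := 1) (by rw [pow_one, hyr])) (T.isPGroup'.map N.subtype) ?_ ?_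
          (Or.inr (Subgroup.zpowers_le.mpr hy))
        · intro h
          rw [Subgroup.zpowers_eq_bot.mp h, orderOf_one] at hyr
          exact hr.one_lt.ne hyr
        · rw [Ne, Subgroup.map_eq_bot_iff, Subgroup.ker_subtype]
          exact fun h => hT1 (le_bot_iff.mp h)
      · exact isPGroup_of_normalized hp Nat.prime_two hpq hpG hmix S.isPGroup' hS1
          (fun x _ => by rw [Subgroup.normalizer_eq_top]; trivial) h2N
    have hperfect : commutator G = ⊤ := by
      by_contra h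
      have hle : commutator G ≤ (P : Subgroup G) := by
        obtain ⟨P', hP'⟩ := (hnp _ inferInstance h).exists_le_sylow
        have hn' : (P' : Subgroup G).Normal := Subgroup.Normal.of_commutator_le (h := hP')
        exact absurd hn' (sylow_not_normal hp Nat.prime_two hpq hpG hqG hmix hr hrG hrp hrq P')
      exact hPn (Subgroup.Normal.of_commutator_le (h := hle))
    have hcen : center G = ⊥ := by
      have hct : center G ≠ ⊤ := fun h => by
        refine hPn ⟨fun x hx y => ?_⟩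
        have := Subgroup.mem_center_iff.mp (show x ∈ center G by rw [h]; trivial) y
        rwa [this, mul_inv_cancel_right]
      have hp' := hnp _ inferInstance hct
      rw [Subgroup.eq_bot_iff_forall]
      intro z hz
      obtain ⟨P', hP'⟩ := hp'.exists_le_sylow
      have hzP : z ∈ (P' : Subgroup G) := hP' hz
      let _ : CommGroup (P' : Subgroup G) :=
        { (inferInstance : Group (P' : Subgroup G)) with
          mul_comm := fun a b => (hab P').is_comm.comm a b }
      let τ := MonoidHom.transfer (MonoidHom.id (P' : Subgroup G))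
      have htriv : ∀ x : G, τ x = 1 := by
        intro x
        have hx : x ∈ commutator G := by rw [hperfect]; trivial
        exact Abelianization.commutator_subset_ker τ hx
      have key : ∀ (m : ℕ) (g₀ : G), g₀⁻¹ * z ^ m * g₀ ∈ (P' : Subgroup G) →
          g₀⁻¹ * z ^ m * g₀ = z ^ m := by
        intro m g₀ _
        rw [mul_assoc, ← Subgroup.mem_center_iff.mp (Subgroup.pow_mem _ hz m) g₀,
          inv_mul_cancel_left]
      have he := MonoidHom.transfer_eq_pow (MonoidHom.id (P' : Subgroup G)) z key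
      have hpow : z ^ (P' : Subgroup G).index = 1 := congrArg Subtype.val (he.symm.trans (htriv z))
      obtain ⟨i, hi⟩ := exists_orderOf_eq P'.isPGroup' hzP
      exact orderOf_eq_one_iff.mp (Nat.eq_one_of_dvd_coprimes
        (Nat.Coprime.pow_left i (hp.coprime_iff_not_dvd.mpr P'.not_dvd_index))
        (dvd_of_eq hi) (orderOf_dvd_of_pow_eq_one hpow))
  · intro N hN
    by_contra hne
    push Not at hne
    have hNp := hnp N hN hne.2
    obtain ⟨P', hP'⟩ := hNp.exists_le_sylow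
    have hCP : (P' : Subgroup G) ≤ centralizer (N : Set G) := fun x hx =>
      Subgroup.mem_centralizer_iff.mpr fun y hy => hcomm _ P'.isPGroup' y (hP' hy) x hx
    by_cases hC : centralizer (N : Set G) = ⊤
    · refine hne.1 (eq_bot_iff.mpr fun x hx => ?_)
      rw [← hcen, Subgroup.mem_center_iff]
      intro y
      exact (Subgroup.mem_centralizer_iff.mp (show y ∈ centralizer (N : Set G) by rw [hC]; trivial)
        x hx).symm
    · have hCp := hnp _ inferInstance hC
      have hn' : (P' : Subgroup G).Normal := by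
        rw [← P'.3 hCp hCP]; infer_instance
      exact sylow_not_normal hp Nat.prime_two hpq hpG hqG hmix hr hrG hrp hrq P' hn'
  · exact hcen

end Cfsg.Agent.Grp.MixedPrimes
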