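import Mathlib
import Cfsg.Agent.Lib.Grp.MixedPrimes.Setup

/-!
# Centralisers in a least counterexample
-/

namespace Cfsg.Agent.Grp.MixedPrimes

open Subgroup

universe u

variable {G : Type u} [Group G] [Finite G] {p : ℕ}

omit [Finite G] in
theorem mem_cs {a x : G} : a ∈ centralizer ({x} : Set G) ↔ a * x = x * a :=
  Subgroup.mem_centralizer_singleton_iff

omit [Finite G] in
theorem mul_self_of_two {t : G} (ht : orderOf t = 2) : t * t = 1 := by
  have := pow_orderOf_eq_one t
  rwa [ht, sq] at this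

omit [Finite G] in
theorem inv_of_two {t : G} (ht : orderOf t = 2) : t⁻¹ = t :=
  inv_eq_of_mul_eq_one_right (mul_self_of_two ht)

omit [Finite G] in
theorem ne_one_of_two {t : G} (ht : orderOf t = 2) : t ≠ 1 := fun h => by
  rw [h, orderOf_one] at ht; omega

omit [Finite G] in
theorem orderOf_two {t : G} (h : t * t = 1) (h1 : t ≠ 1) : orderOf t = 2 :=
  orderOf_eq_prime (by rw [sq, h]) h1

/-- An element of `l`-power order normalising a Sylow `l`-subgroup lies in it. -/
theorem mem_of_normalizes {l : ℕ} [Fact l.Prime] (P : Sylow l G) {g : G} {k : ℕ}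
    (hg : orderOf g = l ^ k) (hgP : g ∈ normalizer ((P : Subgroup G) : Set G)) :
    g ∈ (P : Subgroup G) := by
  have hp : IsPGroup l ↥(zpowers g ⊔ (P : Subgroup G)) :=
    (isPGroup_zpowers hg).to_sup_of_normal_right' P.isPGroup' (zpowers_le.mpr hgP)
  have := P.3 hp le_sup_right
  rw [← this]
  exact mem_sup_left (mem_zpowers g)

/-- An element inverting `x` normalises the centraliser of `x`. -/
theorem mem_normalizer_cs {t x : G} (h : t * x * t⁻¹ = x⁻¹) :
    t ∈ normalizer ((centralizer ({x} : Set G)) : Set G) := by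
  rw [Grp.mem_normalizer_iff_smul]
  refine le_antisymm ?_ ?_
  · intro y hy
    rw [Subgroup.mem_pointwise_smul_iff_inv_smul_mem, mem_cs] at hy
    simp only [← map_inv, MulAut.smul_def, MulAut.conj_apply, inv_inv] at hy
    rw [mem_cs]
    have h2 := Commute.map (show Commute (t⁻¹ * y * t) x from hy) (MulAut.conj t).toMonoidHom
    simp only [MulEquiv.coe_toMonoidHom, MulAut.conj_apply, h] at h2
    rw [show t * (t⁻¹ * y * t) * t⁻¹ = y by group] at h2
    exact (Commute.inv_right_iff.mp h2).eq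
  · intro y hy
    rw [mem_cs] at hy
    rw [Subgroup.mem_pointwise_smul_iff_inv_smul_mem, mem_cs]
    simp only [← map_inv, MulAut.smul_def, MulAut.conj_apply, inv_inv]
    have h3 : t⁻¹ * x⁻¹ * t = x := by rw [← h]; group
    have h2 := Commute.map (show Commute y x⁻¹ from Commute.inv_right hy)
      (MulAut.conj t⁻¹).toMonoidHom
    simp only [MulEquiv.coe_toMonoidHom, MulAut.conj_apply, inv_inv, h3] at h2
    exact h2.eq

omit [Finite G] in
theorem eq_one_of_inverted_of_fixed {l k : ℕ} (hl : l.Prime) (hl2 : l ≠ 2) {x : G}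
    (hx : orderOf x = l ^ k) (h : x⁻¹ = x) : x = 1 :=
  eq_one_of_orders (i := k) (j := 1) hl Nat.prime_two hl2 (dvd_of_eq hx)
    (orderOf_dvd_of_pow_eq_one (by rw [pow_one, sq]; nth_rewrite 1 [← h]; exact inv_mul_cancel x))

namespace Ctx

variable (h : Ctx G p)
include h

theorem fact : Fact p.Prime := ⟨h.hp⟩

theorem centralizer_ne_top {x : G} (hx : x ≠ 1) : centralizer ({x} : Set G) ≠ ⊤ := fun he => by
  have : x ∈ center G := Subgroup.mem_center_iff.mpr fun g => mem_cs.mp (by rw [he]; trivial)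
  rw [h.notAbelian, Subgroup.mem_bot] at this
  exact hx this

theorem normalizer_ne_top {K : Subgroup G} (h0 : K ≠ ⊥) (h1 : K ≠ ⊤) :
    normalizer (K : Set G) ≠ ⊤ := fun he => by
  rcases h.simple K (Subgroup.normalizer_eq_top_iff.mp he) with h2 | h2
  · exact h0 h2
  · exact h1 h2

theorem two_le_p : 3 ≤ p := by
  have h2 := h.hp.two_le; have := h.hp2; omega

theorem exists_sylow_mem {t : G} (ht : orderOf t = 2) : ∃ Q : Sylow 2 G, t ∈ (Q : Subgroup G) := by
  obtain ⟨Q, hQ⟩ := (isPGroup_zpowers (p := 2) (k := 1) (by rw [pow_one, ht])).exists_le_sylow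
  exact ⟨Q, hQ (mem_zpowers t)⟩

theorem comm_sylow (Q : Sylow 2 G) {x y : G} (hx : x ∈ (Q : Subgroup G))
    (hy : y ∈ (Q : Subgroup G)) : x * y = y * x := by
  have e : ∀ z ∈ (Q : Subgroup G), z⁻¹ = z := fun z hz =>
    inv_eq_of_mul_eq_one_right (h.sq Q z hz)
  calc x * y = (x * y)⁻¹ := (e _ (mul_mem hx hy)).symm
    _ = y * x := by rw [mul_inv_rev, e x hx, e y hy]

theorem orderOf_mem (Q : Sylow 2 G) {x : G} (hx : x ∈ (Q : Subgroup G)) (h1 : x ≠ 1) :
    orderOf x = 2 := orderOf_two (h.sq Q x hx) h1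

/-- Membership by parts in a proper subgroup of even order. -/
theorem mem_of_parts {H K : Subgroup G} (hH : H ≠ ⊤) (h2 : 2 ∣ Nat.card H) {x : G} (hx : x ∈ H)
    (htwo : ∀ y ∈ H, y ∈ zpowers x → (∃ k, orderOf y = 2 ^ k) → y ∈ K)
    (hpp : ∀ y ∈ H, y ∈ zpowers x → (∃ k, orderOf y = p ^ k) → y ∈ K) : x ∈ K := by
  refine Transfer.prime_parts x K fun l hl y hy hyx => ?_
  have hyH : y ∈ H := zpowers_le.mpr hx hyx
  obtain ⟨k, hk⟩ := hy
  rcases Nat.eq_zero_or_pos k with h0 | h0
  · rw [h0, pow_zero, orderOf_eq_one_iff] at hk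
    rw [hk]; exact one_mem K
  · have hd : l ∣ Nat.card H :=
      (dvd_pow_self l h0.ne').trans (hk ▸ Subgroup.orderOf_dvd_natCard H hyH)
    rcases h.proper H hH h2 l hl hd with e | e
    · subst e; exact htwo y hyH hyx ⟨k, hk⟩
    · subst e; exact hpp y hyH hyx ⟨k, hk⟩

/-- An element of `p`-power order normalising a Sylow `2`-subgroup and fixing one of its
involutions centralises it. -/
theorem fix (Q : Sylow 2 G) {g s : G} {k : ℕ} (hg : orderOf g = p ^ k)
    (hgQ : g ∈ normalizer ((Q : Subgroup G) : Set G)) (hs : s ∈ (Q : Subgroup G)) (hs1 : s ≠ 1)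
    (hgs : g * s = s * g) {u : G} (hu : u ∈ (Q : Subgroup G)) : g * u = u * g := by
  have := h.fact
  by_contra hne
  obtain ⟨n, hn⟩ := (orbit_cases hg hgQ hu
    (fun e => hne (mul_inv_eq_iff_eq_mul.mp e))).2 (h.cardQ Q) s hs hs1
  have hc : Commute (g ^ n) s := Commute.zpow_left hgs n
  have hus : u = s := by
    calc u = (g ^ n)⁻¹ * (g ^ n * u * (g ^ n)⁻¹) * g ^ n := by group
      _ = (g ^ n)⁻¹ * s * g ^ n := by rw [hn]
      _ = s := by rw [mul_assoc, ← hc.eq, inv_mul_cancel_left]
  exact hne (hus ▸ hgs)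

/-- An element of `p`-power order centralises each small `2`-subgroup it normalises. -/
theorem small {U : Subgroup G} (hcard : Nat.card U < p + 1) {g : G} {k : ℕ}
    (hg : orderOf g = p ^ k) (hgU : g ∈ normalizer (U : Set G)) {u : G} (hu : u ∈ U) :
    g * u = u * g := by
  have := h.fact
  by_contra hne
  have := (orbit_cases hg hgU hu (fun e => hne (mul_inv_eq_iff_eq_mul.mp e))).1
  omega

/-- The elements of `p`-power order commuting with an involution commute with each other. -/
theorem comm_centralizer {s x y : G} (hs : orderOf s = 2) {i j : ℕ} (hx : orderOf x = p ^ i)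
    (hy : orderOf y = p ^ j) (hxs : x * s = s * x) (hys : y * s = s * y) : x * y = y * x := by
  have := h.fact
  obtain ⟨Q, hQ⟩ := h.exists_sylow_mem hs
  set C := centralizer ({s} : Set G) with hC
  have hQC : (Q : Subgroup G) ≤ C := fun z hz => mem_cs.mpr (h.comm_sylow Q hz hQ)
  have hCt : C ≠ ⊤ := h.centralizer_ne_top (ne_one_of_two hs)
  have h2C : 2 ∣ Nat.card C := hs ▸ Subgroup.orderOf_dvd_natCard C (mem_cs.mpr rfl)
  have hsy : Grp.IsSylowIn 2 (Q : Subgroup G) C :=
    ⟨hQC, Q.isPGroup', fun hd => Q.not_dvd_index (hd.trans (relIndex_dvd_index_of_le hQC))⟩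
  obtain ⟨O, -, hCO, hO2, hOall⟩ := exists_complement_in hsy (by
    intro g hg hgQ u hu
    have : g ∈ centralizer ((Q : Subgroup G) : Set G) := by
      refine h.mem_of_parts hCt h2C hg ?_ ?_ <;> rintro z hz hzg ⟨k, hk⟩ <;>
        rw [Subgroup.mem_centralizer_iff] <;> intro w hw
      · exact h.comm_sylow Q hw (mem_of_normalizes Q hk (zpowers_le.mpr hgQ hzg))
      · exact (h.fix Q hk (zpowers_le.mpr hgQ hzg) hQ (ne_one_of_two hs) (mem_cs.mp hz) hw).symm
    exact (Subgroup.mem_centralizer_iff.mp this u hu).symm)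
  have hOp : IsPGroup p O := h.odd O s hs (hCO (mem_cs.mpr rfl)) hO2
  have hodd : ∀ {z : G} {k : ℕ}, orderOf z = p ^ k → ¬ 2 ∣ orderOf z := fun hz hd =>
    h.hp2 ((Nat.prime_dvd_prime_iff_eq Nat.prime_two h.hp).mp
      (Nat.prime_two.dvd_of_dvd_pow (hz ▸ hd))).symm
  exact h.comm O hOp x (hOall x (mem_cs.mpr hxs) (hodd hx)) y (hOall y (mem_cs.mpr hys) (hodd hy))

/-- Elements of `p`-power order in a common Sylow subgroup. -/
theorem exists_sylow_pair {x y : G} {i j : ℕ} (hx : orderOf x = p ^ i) (hy : orderOf y = p ^ j)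
    (hxy : x * y = y * x) :
    ∃ P : Sylow p G, x ∈ (P : Subgroup G) ∧ y ∈ (P : Subgroup G) := by
  have hle : zpowers x ≤ normalizer (zpowers y : Set G) :=
    (zpowers_le.mpr (mem_cs.mpr hxy)).trans (by
      intro g hg
      rw [Subgroup.mem_set_normalizer_iff]
      intro z
      have hg' := mem_cs.mp hg
      constructor
      · rintro ⟨n, rfl⟩
        exact ⟨n, by
          show y ^ n = g * y ^ n * g⁻¹
          rw [(Commute.zpow_right hg' n).eq, mul_inv_cancel_right]⟩
      · rintro ⟨n, hn⟩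
        refine ⟨n, ?_⟩
        show y ^ n = z
        have : z = g⁻¹ * y ^ n * g := by rw [show y ^ n = g * z * g⁻¹ from hn]; group
        rw [this, mul_assoc, ← (Commute.zpow_right hg' n).eq, inv_mul_cancel_left])
  obtain ⟨P, hP⟩ := ((isPGroup_zpowers hx).to_sup_of_normal_right' (isPGroup_zpowers hy)
    hle).exists_le_sylow
  exact ⟨P, hP (mem_sup_left (mem_zpowers x)), hP (mem_sup_right (mem_zpowers y))⟩

/-- Two noncommuting involutions invert a common nontrivial element of `p`-power order. -/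
theorem exists_inverted {t u : G} (ht : orderOf t = 2) (hu : orderOf u = 2)
    (hne : t * u ≠ u * t) :
    ∃ x k, x ∈ zpowers (t * u) ∧ orderOf x = p ^ k ∧ x ≠ 1 ∧ t * x * t⁻¹ = x⁻¹ ∧
      u * x * u⁻¹ = x⁻¹ := by
  set z := t * u with hz
  have ht2 := mul_self_of_two ht
  have hu2 := mul_self_of_two hu
  have hzinv : z⁻¹ = u * t := by rw [hz, mul_inv_rev, inv_of_two ht, inv_of_two hu]
  have htz : t * z * t⁻¹ = z⁻¹ := by
    rw [hzinv, inv_of_two ht, hz]
    calc t * (t * u) * t = t * t * (u * t) := by group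
      _ = u * t := by rw [ht2, one_mul]
  have huz : u * z * u⁻¹ = z⁻¹ := by
    rw [hzinv, inv_of_two hu, hz]
    calc u * (t * u) * u = u * t * (u * u) := by group
      _ = u * t := by rw [hu2, mul_one]
  have hnorm : ∀ {w : G}, w ∈ zpowers z → ∀ {a : G}, a * z * a⁻¹ = z⁻¹ → a * w * a⁻¹ = w⁻¹ := by
    intro w hw a ha
    obtain ⟨n, rfl⟩ := Subgroup.mem_zpowers_iff.mp hw
    rw [← conj_zpow, ha, inv_zpow]
  by_cases hodd : ∃ l : ℕ, l.Prime ∧ l ≠ 2 ∧ l ∣ orderOf z
  · obtain ⟨l, hl, hl2, hld⟩ := hodd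
    set x := z ^ (orderOf z / l) with hx
    have hxz : x ∈ zpowers z := Subgroup.npow_mem_zpowers z _
    have hxl : orderOf x = l := orderOf_pow_orderOf_div (orderOf_pos z).ne' hld
    have hK : IsPGroup p (zpowers x) := by
      refine h.odd _ t ht ?_ (by
        rw [Nat.card_zpowers, hxl]
        exact fun hd => hl2 ((Nat.prime_dvd_prime_iff_eq Nat.prime_two hl).mp hd).symm)
      rw [Subgroup.mem_set_normalizer_iff]
      intro w
      have ht' := hnorm (a := t) (w := w)
      constructor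
      · intro hw
        show t * w * t⁻¹ ∈ zpowers x
        rw [ht' (zpowers_le.mpr hxz hw) htz]
        exact inv_mem hw
      · intro hw
        have h2 := hnorm (a := t) (zpowers_le.mpr hxz hw) htz
        rw [show t * (t * w * t⁻¹) * t⁻¹ = t * t * w * (t * t)⁻¹ by group, ht2, one_mul, inv_one,
          mul_one] at h2
        rw [h2]
        exact inv_mem hw
    have := h.fact
    obtain ⟨k, hk⟩ := exists_orderOf_eq hK (mem_zpowers x)
    exact ⟨x, k, hxz, hk, fun e => hl.one_lt.ne (by rw [← hxl, e, orderOf_one]), hnorm hxz htz,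
      hnorm hxz huz⟩
  · exfalso
    push Not at hodd
    have h2 : IsPGroup 2 (zpowers z) := isPGroup_of_primes fun l hl hd => by
      by_contra hl2
      exact hodd l hl hl2 (by rwa [Nat.card_zpowers] at hd)
    have hle : zpowers t ≤ normalizer (zpowers z : Set G) := by
      rw [zpowers_le, Subgroup.mem_set_normalizer_iff]
      intro w
      constructor
      · intro hw
        show t * w * t⁻¹ ∈ zpowers z
        rw [hnorm hw htz]
        exact inv_mem hw
      · intro hw
        have h3 := hnorm (a := t) hw htz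
        rw [show t * (t * w * t⁻¹) * t⁻¹ = t * t * w * (t * t)⁻¹ by group, ht2, one_mul, inv_one,
          mul_one] at h3
        rw [h3]
        exact inv_mem hw
    obtain ⟨Q, hQ⟩ := ((isPGroup_zpowers (p := 2) (k := 1)
      (by rw [pow_one, ht])).to_sup_of_normal_right' h2 hle).exists_le_sylow
    have htQ : t ∈ (Q : Subgroup G) := hQ (mem_sup_left (mem_zpowers t))
    have huQ : u ∈ (Q : Subgroup G) := by
      have : t * z = u := by rw [hz, ← mul_assoc, ht2, one_mul]
      rw [← this]
      exact mul_mem htQ (hQ (mem_sup_right (mem_zpowers z)))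
    exact hne (h.comm_sylow Q htQ huQ)

/-- There are two involutions which do not commute. -/
theorem exists_noncommuting :
    ∃ t u : G, orderOf t = 2 ∧ orderOf u = 2 ∧ t * u ≠ u * t := by
  by_contra hno
  push Not at hno
  set K := Subgroup.closure {t : G | orderOf t = 2} with hK
  have : Fact (Nat.Prime 2) := ⟨Nat.prime_two⟩
  obtain ⟨a, ha⟩ := exists_prime_orderOf_dvd_card' 2 h.even
  have hKn : K.Normal := by
    constructor
    intro x hx g
    induction hx using Subgroup.closure_induction with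
    | mem y hy => exact Subgroup.subset_closure (show orderOf (g * y * g⁻¹) = 2 by
        rw [orderOf_conj]; exact hy)
    | one => simp
    | mul y y' _ _ ihy ihy' =>
      rw [show g * (y * y') * g⁻¹ = (g * y * g⁻¹) * (g * y' * g⁻¹) by group]
      exact mul_mem ihy ihy'
    | inv y _ ihy =>
      rw [show g * y⁻¹ * g⁻¹ = (g * y * g⁻¹)⁻¹ by group]
      exact inv_mem ihy
  rcases h.simple K hKn with hb | htop
  · have : a ∈ K := Subgroup.subset_closure ha
    rw [hb, Subgroup.mem_bot] at this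
    exact ne_one_of_two ha this
  · have hcm : ∀ x ∈ K, x * a = a * x := by
      intro x hx
      induction hx using Subgroup.closure_induction with
      | mem y hy => exact hno y a hy ha
      | one => simp
      | mul y y' _ _ ihy ihy' => exact Commute.mul_left ihy ihy'
      | inv y _ ihy => exact Commute.inv_left ihy
    have : a ∈ center G := Subgroup.mem_center_iff.mpr fun g => hcm g (by rw [htop]; trivial)
    rw [h.notAbelian, Subgroup.mem_bot] at this
    exact ne_one_of_two ha this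

/-- Odd centralisers of inverted elements are Sylow subgroups. -/
theorem sylow_of_odd_centralizer {t x : G} {k : ℕ} (ht : orderOf t = 2) (hx : orderOf x = p ^ k)
    (htx : t * x * t⁻¹ = x⁻¹) (hodd : ∀ w : G, orderOf w = 2 → w * x ≠ x * w) :
    ∃ P : Sylow p G, (P : Subgroup G) = centralizer ({x} : Set G) ∧
      t ∈ normalizer ((P : Subgroup G) : Set G) ∧ x ∈ (P : Subgroup G) := by
  have := h.fact
  have : Fact (Nat.Prime 2) := ⟨Nat.prime_two⟩
  set C := centralizer ({x} : Set G) with hC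
  have hC2 : ¬ 2 ∣ Nat.card C := by
    intro hd
    obtain ⟨⟨w, hw⟩, hw2⟩ := exists_prime_orderOf_dvd_card' (G := C) 2 hd
    rw [Subgroup.orderOf_mk] at hw2
    exact hodd w hw2 (mem_cs.mp hw)
  have hCp := h.odd C t ht (mem_normalizer_cs htx) hC2
  obtain ⟨P, hP⟩ := (isPGroup_zpowers hx).exists_le_sylow
  have hxP : x ∈ (P : Subgroup G) := hP (mem_zpowers x)
  have hPC : (P : Subgroup G) ≤ C := fun y hy =>
    mem_cs.mpr (h.comm _ P.isPGroup' y hy x hxP)
  have he : C = (P : Subgroup G) := P.3 hCp hPC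
  exact ⟨P, he.symm, he ▸ mem_normalizer_cs htx, hxP⟩

/-- An involution normalising a Sylow subgroup without centralising any of its nontrivial
elements inverts it. -/
theorem inverts {P : Sylow p G} {t : G} (ht : orderOf t = 2)
    (htP : t ∈ normalizer ((P : Subgroup G) : Set G))
    (hfree : ∀ x ∈ (P : Subgroup G), x * t = t * x → x = 1) {x : G} (hx : x ∈ (P : Subgroup G)) :
    t * x * t⁻¹ = x⁻¹ := by
  set y := t * x * t⁻¹ with hy
  have hyP : y ∈ (P : Subgroup G) := (Subgroup.mem_set_normalizer_iff.mp htP x).mp hx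
  have hc := h.comm _ P.isPGroup' x hx y hyP
  have hty : t * y * t⁻¹ = x := by
    rw [hy, show t * (t * x * t⁻¹) * t⁻¹ = t * t * x * (t * t)⁻¹ by group, mul_self_of_two ht]
    group
  have h1 : x * y = 1 := by
    refine hfree _ (mul_mem hx hyP) ?_
    have e : t * (x * y) * t⁻¹ = x * y := by
      calc t * (x * y) * t⁻¹ = (t * x * t⁻¹) * (t * y * t⁻¹) := by group
        _ = y * x := by rw [hty, ← hy]
        _ = x * y := hc.symm
    exact (mul_inv_eq_iff_eq_mul.mp e).symm
  exact eq_inv_of_mul_eq_one_right h1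

/-- All involutions are conjugate. -/
theorem involutions_conj {s t : G} (hs : orderOf s = 2) (ht : orderOf t = 2) :
    ∃ c : G, c * s * c⁻¹ = t := by
  obtain ⟨Q, hQ⟩ := h.exists_sylow_mem hs
  obtain ⟨R, hR⟩ := h.exists_sylow_mem ht
  have : Fact (Nat.Prime 2) := ⟨Nat.prime_two⟩
  obtain ⟨g, hg⟩ := MulAction.exists_smul_eq G Q R
  have hsR : g * s * g⁻¹ ∈ (R : Subgroup G) := by
    rw [← hg, Sylow.coe_subgroup_smul]
    exact Subgroup.mem_smul_pointwise_iff_exists _ _ _ |>.mpr ⟨s, hQ, by simp [MulAut.smul_def]⟩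
  have h1 : g * s * g⁻¹ ≠ 1 := by
    rw [Ne, conj_eq_one_iff]; exact ne_one_of_two hs
  obtain ⟨d, -, -, hd⟩ := h.trans R _ hsR t hR h1 (ne_one_of_two ht)
  exact ⟨d * g, by rw [← hd]; group⟩

end Ctx

end Cfsg.Agent.Grp.MixedPrimes
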