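import Mathlib

/-!
# No regular friendship graph of degree at least three

A finite nonempty regular graph of degree `d ≥ 3` in which two distinct vertices have exactly
one common neighbour does not exist (Erdős–Rényi–Sós, by traces modulo a prime divisor of
`d - 1`).
-/

namespace Cfsg.Agent.Grp.MixedPrimes

open Matrix

theorem no_friendship {V : Type*} [Finite V] [Nonempty V] (R : V → V → Prop)
    (hsymm : ∀ a b, R a b → R b a) (hirr : ∀ a, ¬ R a a) (d : ℕ)
    (hd : ∀ a, {b | R a b}.ncard = d)
    (hone : ∀ a b, a ≠ b → {c | R a c ∧ R b c}.ncard = 1) : d < 3 := by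
  classical
  by_contra hd3
  have := Fintype.ofFinite V
  obtain ⟨l, hl, hld⟩ := Nat.exists_prime_and_dvd (show d - 1 ≠ 1 by omega)
  have := Fact.mk hl
  have hd1 : (d : ZMod l) = 1 := by
    have h0 := (ZMod.natCast_eq_zero_iff (d - 1) l).mpr hld
    rwa [Nat.cast_sub (by omega : 1 ≤ d), Nat.cast_one, sub_eq_zero] at h0
  let A : Matrix V V (ZMod l) := Matrix.of fun i j => if R i j then 1 else 0
  let J : Matrix V V (ZMod l) := Matrix.of fun _ _ => 1
  have hrow : ∀ i, ∑ j, A i j = 1 := by
    intro i
    rw [← hd1, ← hd i, Set.ncard_eq_toFinset_card' , Set.toFinset_setOf,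
      Finset.natCast_card_filter]
    rfl
  have hAA : A * A = J := by
    ext i k
    rw [Matrix.mul_apply]
    show ∑ j, A i j * A j k = 1
    have hs : ∀ j, A i j * A j k = if R i j ∧ R k j then 1 else 0 := by
      intro j
      show (if R i j then (1 : ZMod l) else 0) * (if R j k then 1 else 0) = _
      by_cases h1 : R i j
      · by_cases h2 : R j k
        · rw [if_pos h1, if_pos h2, if_pos ⟨h1, hsymm _ _ h2⟩, mul_one]
        · rw [if_neg h2, mul_zero, if_neg (show ¬(R i j ∧ R k j) from fun h => h2 (hsymm _ _ h.2))]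
      · rw [if_neg h1, zero_mul, if_neg (show ¬(R i j ∧ R k j) from fun h => h1 h.1)]
    rw [Finset.sum_congr rfl (fun j _ => hs j), ← Finset.natCast_card_filter, ← Set.toFinset_setOf,
      ← Set.ncard_eq_toFinset_card']
    rcases eq_or_ne i k with rfl | hik
    · simp only [and_self]
      rw [hd i, hd1]
    · rw [hone i k hik, Nat.cast_one]
  have hAJ : A * J = J := by
    ext i k
    rw [Matrix.mul_apply]
    show ∑ j, A i j * 1 = 1
    simp only [mul_one]
    exact hrow i
  have hpow : ∀ m : ℕ, A ^ (m + 2) = J := by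
    intro m
    induction m with
    | zero => rw [zero_add, pow_two, hAA]
    | succ m ih => rw [show m + 1 + 2 = (m + 2) + 1 by ring, pow_succ', ih, hAJ]
  have htrA : A.trace = 0 :=
    Finset.sum_eq_zero fun i _ => if_neg (hirr i)
  have htrJ : J.trace = (Fintype.card V : ZMod l) := by
    show ∑ _i : V, (1 : ZMod l) = _
    simp
  have h0 : (Fintype.card V : ZMod l) = 0 := by
    have h := ZMod.trace_pow_card A
    rw [htrA, zero_pow hl.pos.ne'] at h
    have h2 := hl.two_le
    obtain ⟨m, hm⟩ := Nat.exists_eq_add_of_le h2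
    have h5 : A ^ l = J := (congrArg (A ^ ·) (hm.trans (Nat.add_comm 2 m))).trans (hpow m)
    rwa [h5, htrJ] at h
  obtain ⟨v⟩ := ‹Nonempty V›
  have hJ : J * J = J := by
    calc J * J = A ^ 2 * A ^ 2 := by rw [hpow 0]
      _ = A ^ 4 := by rw [← pow_add]
      _ = J := hpow 2
  have := congrFun (congrFun hJ v) v
  rw [Matrix.mul_apply] at this
  change ∑ _j : V, (1 : ZMod l) * 1 = 1 at this
  simp [h0] at this

end Cfsg.Agent.Grp.MixedPrimes
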