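import Mathlib
import Cfsg.Agent.Lib.Grp.MixedPrimes.Local
import Cfsg.Agent.Lib.Grp.Solvable
import Cfsg.Agent.S0144

/-!
# No element of `p`-power order centralises a Sylow `2`-subgroup
-/

namespace Cfsg.Agent.Grp.MixedPrimes.Ctx

open Subgroup

universe u

variable {G : Type u} [Group G] [Finite G] {p : ℕ}

/-- The centraliser of a nontrivial element of `p`-power order centralising `Q` is `N(Q)`. -/
theorem centralizer_eq_normalizer (h : Ctx G p) (Q : Sylow 2 G) {v : G} {k : ℕ}
    (hv : orderOf v = p ^ k) (hvQ : ∀ u ∈ (Q : Subgroup G), v * u = u * v) (hv1 : v ≠ 1) :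
    centralizer ({v} : Set G) = normalizer ((Q : Subgroup G) : Set G) := by
  have := h.fact
  have : Fact (Nat.Prime 2) := ⟨Nat.prime_two⟩
  obtain ⟨s, hsQ, hs1⟩ := (Subgroup.ne_bot_iff_exists_ne_one.mp
    (Q.ne_bot_of_dvd_card h.even)).elim fun a ha =>
      (⟨a.1, a.2, fun e => ha (Subtype.ext e)⟩ : ∃ s ∈ (Q : Subgroup G), s ≠ 1)
  have hs := h.orderOf_mem Q hsQ hs1
  -- elements of `p`-power order normalising `Q` commute with `v`
  have hgv : ∀ (g : G) (i : ℕ), orderOf g = p ^ i →
      g ∈ normalizer ((Q : Subgroup G) : Set G) → g * v = v * g := by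
    intro g i hg hgQ
    set O := Subgroup.closure {x : G | (∃ j, orderOf x = p ^ j) ∧
      ∀ u ∈ (Q : Subgroup G), x * u = u * x} with hO
    have hcm : ∀ a ∈ {x : G | (∃ j, orderOf x = p ^ j) ∧ ∀ u ∈ (Q : Subgroup G), x * u = u * x},
        ∀ b ∈ {x : G | (∃ j, orderOf x = p ^ j) ∧ ∀ u ∈ (Q : Subgroup G), x * u = u * x},
        a * b = b * a := fun a ⟨⟨i, hi⟩, ha⟩ b ⟨⟨j, hj⟩, hb⟩ =>
      h.comm_centralizer hs hi hj (ha s hsQ) (hb s hsQ)
    have hVp : IsPGroup p O := by
      intro x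
      obtain ⟨x, hx⟩ := x
      induction hx using Subgroup.closure_induction with
      | mem y hy =>
        obtain ⟨⟨j, hj⟩, -⟩ := hy
        exact ⟨j, Subtype.ext (by
          show y ^ p ^ j = 1
          rw [← hj]; exact pow_orderOf_eq_one y)⟩
      | one => exact ⟨0, Subtype.ext (by simp)⟩
      | mul y y' hy hy' ihy ihy' =>
        obtain ⟨a, ha⟩ := ihy
        obtain ⟨b, hb⟩ := ihy'
        refine ⟨a + b, Subtype.ext ?_⟩
        have ha' : y ^ p ^ a = 1 := congrArg Subtype.val ha
        have hb' : y' ^ p ^ b = 1 := congrArg Subtype.val hb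
        have hc : Commute y y' := by
          have := Subgroup.isMulCommutative_closure hcm
          exact congrArg Subtype.val (this.is_comm.comm ⟨y, hy⟩ ⟨y', hy'⟩)
        show (y * y') ^ p ^ (a + b) = 1
        rw [hc.mul_pow, pow_add, pow_mul, ha', one_pow, one_mul, ← pow_add, Nat.add_comm a b,
          pow_add, pow_mul, hb', one_pow]
      | inv y hy ihy =>
        obtain ⟨a, ha⟩ := ihy
        refine ⟨a, Subtype.ext ?_⟩
        have ha' : y ^ p ^ a = 1 := congrArg Subtype.val ha
        show y⁻¹ ^ p ^ a = 1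
        rw [inv_pow, ha', inv_one]
    have hVg : zpowers g ≤ normalizer (O : Set G) := by
      rw [zpowers_le, Grp.mem_normalizer_iff_smul]
      refine Subgroup.eq_of_le_of_card_ge ?_ (le_of_eq ?_)
      · refine Subgroup.map_le_iff_le_comap.mpr ?_
        rw [hO, Subgroup.closure_le]
        rintro x ⟨⟨j, hj⟩, hx⟩
        refine Subgroup.subset_closure ⟨⟨j, ?_⟩, fun u hu => ?_⟩
        · show orderOf (g * x * g⁻¹) = p ^ j
          rw [orderOf_conj]; exact hj
        · show g * x * g⁻¹ * u = u * (g * x * g⁻¹)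
          have hu' : g⁻¹ * u * g ∈ (Q : Subgroup G) := by
            have := (Subgroup.mem_set_normalizer_iff.mp (inv_mem hgQ) u).mp hu
            rwa [inv_inv] at this
          calc g * x * g⁻¹ * u = g * (x * (g⁻¹ * u * g)) * g⁻¹ := by group
            _ = g * ((g⁻¹ * u * g) * x) * g⁻¹ := by rw [hx _ hu']
            _ = u * (g * x * g⁻¹) := by group
      · exact (Subgroup.card_map_of_injective (MulAut.conj g).injective).symm
    exact h.comm _ ((isPGroup_zpowers hg).to_sup_of_normal_right' hVp hVg) g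
      (mem_sup_left (mem_zpowers g)) v
      (mem_sup_right (Subgroup.subset_closure ⟨⟨k, hv⟩, hvQ⟩))
  -- the centraliser of `v` is the normaliser of `Q`
  have hHt := h.centralizer_ne_top hv1
  have hQv : (Q : Subgroup G) ≤ centralizer ({v} : Set G) := fun u hu => mem_cs.mpr (hvQ u hu).symm
  set H := centralizer ({v} : Set G) with hH
  have h2H : 2 ∣ Nat.card H := hs ▸ Subgroup.orderOf_dvd_natCard H (hQv hsQ)
  have hQc : (Q : Subgroup G) ≠ ⊤ := fun e => hHt (top_le_iff.mp (by rw [← e]; exact hQv))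
  have hNv : normalizer ((Q : Subgroup G) : Set G) ≤ H := by
    intro g hg
    refine h.mem_of_parts (h.normalizer_ne_top (Q.ne_bot_of_dvd_card h.even) hQc)
      ((dvd_of_eq hs.symm).trans (Subgroup.orderOf_dvd_natCard _ (Subgroup.le_normalizer hsQ))) hg
      (fun y hy _ ⟨j, hj⟩ => hQv (mem_of_normalizes Q hj hy))
      (fun y hy _ ⟨j, hj⟩ => mem_cs.mpr (hgv y j hj hy))
  have hHN : H ≤ normalizer ((Q : Subgroup G) : Set G) := by
    -- `O₂(H)` is nontrivial, so it is `Q`
    have hHs : Group.IsSolvable H := by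
      have hn : 0 < Nat.card H := Nat.card_pos
      have he : Nat.card H =
          2 ^ (Nat.card H).factorization 2 * p ^ (Nat.card H).factorization p := by
        refine Nat.eq_of_factorization_eq hn.ne'
          (Nat.mul_ne_zero (pow_ne_zero _ two_ne_zero) (pow_ne_zero _ h.hp.ne_zero)) fun l => ?_
        rw [Nat.factorization_mul (pow_ne_zero _ two_ne_zero) (pow_ne_zero _ h.hp.ne_zero),
          Nat.prime_two.factorization_pow, h.hp.factorization_pow, Finsupp.add_apply]
        rcases eq_or_ne l 2 with rfl | hl2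
        · rw [Finsupp.single_eq_same, Finsupp.single_eq_of_ne (Ne.symm h.hp2), add_zero]
        rcases eq_or_ne l p with rfl | hlp
        · rw [Finsupp.single_eq_same, Finsupp.single_eq_of_ne hl2, zero_add]
        rw [Finsupp.single_eq_of_ne hl2, Finsupp.single_eq_of_ne hlp, add_zero,
          Nat.factorization_eq_zero_iff]
        by_contra hc
        push Not at hc
        rcases h.proper H hHt h2H l hc.1 hc.2.1 with e | e
        · exact hl2 e
        · exact hlp e
      exact S0144.result 2 p _ _ Nat.prime_two h.hp he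
    set R := Cfsg.pPrimeCore p H with hR
    set R' := R.map H.subtype with hR'
    have hRn : R.Normal := Grp.pPrimeCore_isNormal
    have hR2 : IsPGroup 2 R' := by
      refine isPGroup_of_primes fun l hl hd => ?_
      rw [hR', Subgroup.card_map_of_injective (Subgroup.subtype_injective _)] at hd
      rcases h.proper H hHt h2H l hl (hd.trans R.card_subgroup_dvd_card) with e | e
      · exact e
      · rw [e] at hd
        exact absurd hd (h.hp.coprime_iff_not_dvd.mp
          (Grp.pPrimeCore_coprime (G := H) (p := p)).symm)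
    have hR1 : R ≠ ⊥ := by
      intro hb
      have hle := Grp.centralizer_pCore_le (G := H) (p := p) hb
      obtain ⟨g, hgQ, ⟨i, hi⟩, hgs⟩ : ∃ g ∈ normalizer ((Q : Subgroup G) : Set G),
          (∃ i, orderOf g = p ^ i) ∧ ∃ u ∈ (Q : Subgroup G), g * u ≠ u * g := by
        have hcard := h.cardQ Q
        have h3 := h.two_le_p
        obtain ⟨u', hu', hu1, hus⟩ : ∃ u' ∈ (Q : Subgroup G), u' ≠ 1 ∧ u' ≠ s := by
          by_contra hc
          push Not at hc
          have hsub : ((Q : Subgroup G) : Set G) ⊆ {1, s} := fun x hx => by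
            rcases eq_or_ne x 1 with e | e
            · exact Or.inl e
            · exact Or.inr (hc x hx e)
          have := (Set.ncard_le_ncard hsub (Set.toFinite _)).trans (Set.ncard_insert_le _ _)
          rw [← Nat.card_coe_set_eq, Set.ncard_singleton] at this
          change Nat.card (Q : Subgroup G) ≤ 2 at this
          omega
        obtain ⟨g, hg, hgp, hge⟩ := h.trans Q s hsQ u' hu' hs1 hu1
        refine ⟨g, hg, hgp, s, hsQ, fun e => hus ?_⟩
        rw [← hge, e, mul_inv_cancel_right]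
      obtain ⟨u, huQ, hgu⟩ := hgs
      have hgH : g ∈ H := hNv hgQ
      have hPc : IsPGroup p ↥((Cfsg.pCore p H).map H.subtype) :=
        (Grp.pCore_isPGroup (G := H) (p := p)).map _
      have hgc : (⟨g, hgH⟩ : H) ∈ centralizer (Cfsg.pCore p H : Set H) := by
        rw [Subgroup.mem_centralizer_iff]
        intro c hc
        have hn : zpowers g ≤ normalizer (((Cfsg.pCore p H).map H.subtype : Subgroup G) : Set G) := by
          rw [zpowers_le]
          have hN : (Cfsg.pCore p H).Normal := Grp.pCore_isNormal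
          rw [Subgroup.mem_set_normalizer_iff]
          intro y
          constructor
          · rintro ⟨y', hy', rfl⟩
            exact ⟨⟨g, hgH⟩ * y' * ⟨g, hgH⟩⁻¹, hN.conj_mem _ hy' _, by simp⟩
          · rintro ⟨y', hy', e⟩
            refine ⟨⟨g, hgH⟩⁻¹ * y' * ⟨g, hgH⟩, ?_, ?_⟩
            · have := hN.conj_mem _ hy' (⟨g, hgH⟩ : H)⁻¹
              rwa [inv_inv] at this
            · simp only [Subgroup.coe_subtype, Subgroup.coe_mul, InvMemClass.coe_inv] at e ⊢
              rw [e]; group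
        exact Subtype.ext (h.comm _ ((isPGroup_zpowers hi).to_sup_of_normal_right' hPc hn) c
          (mem_sup_right (Subgroup.mem_map_of_mem _ hc)) g (mem_sup_left (mem_zpowers g)))
      have hcn : (centralizer (Cfsg.pCore p H : Set H)).Normal := by
        have : (Cfsg.pCore p H).Normal := Grp.pCore_isNormal
        infer_instance
      set w : H := ⟨g, hgH⟩ * ⟨u, hQv huQ⟩ * ⟨g, hgH⟩⁻¹ * ⟨u, hQv huQ⟩⁻¹ with hw
      have hwc : w ∈ centralizer (Cfsg.pCore p H : Set H) := by
        rw [hw, mul_assoc, mul_assoc]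
        refine mul_mem hgc ?_
        rw [← mul_assoc]
        exact hcn.conj_mem _ (inv_mem hgc) _
      obtain ⟨i', hi'⟩ := exists_orderOf_eq hPc (Subgroup.mem_map_of_mem H.subtype (hle hwc))
      have hwQ : (w : G) ∈ (Q : Subgroup G) := by
        show g * u * g⁻¹ * u⁻¹ ∈ (Q : Subgroup G)
        exact mul_mem ((Subgroup.mem_set_normalizer_iff.mp hgQ u).mp huQ) (inv_mem huQ)
      obtain ⟨j', hj'⟩ := exists_orderOf_eq Q.isPGroup' hwQ
      have h1 : (w : G) = 1 :=
        eq_one_of_orders h.hp Nat.prime_two h.hp2 (dvd_of_eq hi') (dvd_of_eq hj')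
      have h1' : g * u * g⁻¹ * u⁻¹ = 1 := h1
      exact hgu (mul_inv_eq_iff_eq_mul.mp (mul_inv_eq_one.mp h1'))
    have hR'n : H ≤ normalizer (R' : Set G) := by
      intro x hx
      rw [Subgroup.mem_set_normalizer_iff]
      intro y
      constructor
      · rintro ⟨y', hy', rfl⟩
        exact ⟨⟨x, hx⟩ * y' * ⟨x, hx⟩⁻¹, hRn.conj_mem _ hy' _, by simp⟩
      · rintro ⟨y', hy', e⟩
        refine ⟨⟨x, hx⟩⁻¹ * y' * ⟨x, hx⟩, ?_, ?_⟩
        · have := hRn.conj_mem _ hy' (⟨x, hx⟩ : H)⁻¹
          rwa [inv_inv] at this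
        · simp only [Subgroup.coe_subtype, Subgroup.coe_mul, InvMemClass.coe_inv] at e ⊢
          rw [e]; group
    have hR'Q : R' ≤ Q := by
      have hp' : IsPGroup 2 ↥((Q : Subgroup G) ⊔ R') :=
        Q.isPGroup'.to_sup_of_normal_right' hR2 (hQv.trans hR'n)
      rw [← Q.3 hp' le_sup_left]
      exact le_sup_right
    have hQR : (Q : Subgroup G) ≤ R' := by
      obtain ⟨⟨c, hc⟩, hc1⟩ := Subgroup.ne_bot_iff_exists_ne_one.mp hR1
      have hc1' : (c : G) ≠ 1 := fun e => hc1 (Subtype.ext (Subtype.ext e))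
      intro x hx
      rcases eq_or_ne x 1 with e | e
      · rw [e]; exact one_mem _
      obtain ⟨g, hg, -, hgx⟩ := h.trans Q _ (hR'Q ⟨c, hc, rfl⟩) x hx hc1' e
      rw [← hgx]
      exact (Subgroup.mem_set_normalizer_iff.mp (hR'n (hNv hg)) _).mp ⟨c, hc, rfl⟩
    rw [le_antisymm hQR hR'Q]
    exact hR'n
  exact le_antisymm hHN hNv

omit [Finite G] in
theorem conj_mem_sylow_iff (Q : Sylow 2 G) (g y : G) :
    y ∈ ((g • Q : Sylow 2 G) : Subgroup G) ↔ g⁻¹ * y * g ∈ (Q : Subgroup G) := by
  rw [Sylow.coe_subgroup_smul, Subgroup.mem_pointwise_smul_iff_inv_smul_mem]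
  simp [MulAut.smul_def]

omit [Finite G] in
theorem conj_centralizes (Q : Sylow 2 G) (g : G) {v : G}
    (hvQ : ∀ u ∈ (Q : Subgroup G), v * u = u * v) :
    ∀ u ∈ ((g • Q : Sylow 2 G) : Subgroup G), g * v * g⁻¹ * u = u * (g * v * g⁻¹) := by
  intro u hu
  rw [conj_mem_sylow_iff] at hu
  calc g * v * g⁻¹ * u = g * (v * (g⁻¹ * u * g)) * g⁻¹ := by group
    _ = u * (g * v * g⁻¹) := by rw [hvQ _ hu]; group

/-- No involution inverts a nontrivial element of `p`-power order centralising a Sylow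
`2`-subgroup. -/
theorem not_inverted (h : Ctx G p) (Q : Sylow 2 G) {v : G} {k : ℕ} (hv : orderOf v = p ^ k)
    (hvQ : ∀ u ∈ (Q : Subgroup G), v * u = u * v) (hv1 : v ≠ 1) {t : G} (ht : orderOf t = 2) :
    t * v * t⁻¹ ≠ v⁻¹ := by
  intro hinv
  have := h.fact
  have : Fact (Nat.Prime 2) := ⟨Nat.prime_two⟩
  have hN := mem_normalizer_cs hinv
  rw [h.centralizer_eq_normalizer Q hv hvQ hv1] at hN
  have hu : ∀ {w : G}, w ∈ (Q : Subgroup G) → ∀ {a : G},
      a ∈ normalizer ((normalizer ((Q : Subgroup G) : Set G) : Subgroup G) : Set G) →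
      a * w * a⁻¹ ∈ (Q : Subgroup G) := by
    intro w hw a ha
    obtain ⟨j, hj⟩ := exists_orderOf_eq Q.isPGroup' hw
    exact mem_of_normalizes Q (k := j) (by rw [orderOf_conj, hj])
      ((Subgroup.mem_set_normalizer_iff.mp ha w).mp (Subgroup.le_normalizer hw))
  have htQ : t ∈ (Q : Subgroup G) := by
    refine mem_of_normalizes Q (k := 1) (by rw [pow_one, ht]) ?_
    rw [Subgroup.mem_set_normalizer_iff]
    intro y
    refine ⟨fun hy => hu hy hN, fun hy => ?_⟩
    have := hu hy (inv_mem hN)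
    rwa [show t⁻¹ * (t * y * t⁻¹) * t⁻¹⁻¹ = y by group] at this
  rw [← hvQ t htQ, mul_inv_cancel_right] at hinv
  exact hv1 (eq_one_of_inverted_of_fixed h.hp h.hp2 hv hinv.symm)

/-- No nontrivial element of `p`-power order centralises a Sylow `2`-subgroup. -/
theorem not_centralizes (h : Ctx G p) (Q : Sylow 2 G) {v : G} {k : ℕ} (hv : orderOf v = p ^ k)
    (hvQ : ∀ u ∈ (Q : Subgroup G), v * u = u * v) : v = 1 := by
  have := h.fact
  have : Fact (Nat.Prime 2) := ⟨Nat.prime_two⟩
  by_contra hv1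
  -- an element of `p`-power order fixing an involution centralises its Sylow subgroups
  have key : ∀ (R : Sylow 2 G) (x w : G) (i : ℕ), orderOf x = p ^ i → w ∈ (R : Subgroup G) →
      w ≠ 1 → x * w = w * x → ∀ u ∈ (R : Subgroup G), x * u = u * x := by
    intro R x w i hx hw hw1 hxw
    obtain ⟨g, hg⟩ := MulAction.exists_smul_eq G Q R
    have hc := conj_centralizes Q g hvQ
    rw [hg] at hc
    have hgv : orderOf (g * v * g⁻¹) = p ^ k := by rw [orderOf_conj, hv]
    have hgv1 : g * v * g⁻¹ ≠ 1 := by rw [Ne, conj_eq_one_iff]; exact hv1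
    have hxv := h.comm_centralizer (h.orderOf_mem R hw hw1) hx hgv hxw (hc w hw)
    have hxN : x ∈ normalizer ((R : Subgroup G) : Set G) := by
      rw [← h.centralizer_eq_normalizer R hgv hc hgv1]; exact mem_cs.mpr hxv
    exact fun u hu => h.fix R hx hxN hw hw1 hxw hu
  obtain ⟨t, u', ht, hu', hne⟩ := h.exists_noncommuting
  obtain ⟨x, i, -, hxi, hx1, htx, -⟩ := h.exists_inverted ht hu' hne
  obtain ⟨P, hPe, htP, hxP⟩ := h.sylow_of_odd_centralizer ht hxi htx fun w hw he => by
    obtain ⟨R, hR⟩ := h.exists_sylow_mem hw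
    exact h.not_inverted R hxi (key R x w i hxi hR (ne_one_of_two hw) he.symm) hx1 ht htx
  -- `t` inverts `P`
  have hfree : ∀ y ∈ (P : Subgroup G), y * t = t * y → y = 1 := by
    intro y hy hyt
    by_contra hy1
    obtain ⟨R, hR⟩ := h.exists_sylow_mem ht
    obtain ⟨j, hj⟩ := exists_orderOf_eq P.isPGroup' hy
    have hyR := key R y t j hj hR (ne_one_of_two ht) hyt
    have hxN : x ∈ normalizer ((R : Subgroup G) : Set G) := by
      rw [← h.centralizer_eq_normalizer R hj hyR hy1]
      exact mem_cs.mpr (h.comm _ P.isPGroup' x hxP y hy)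
    have hm : t * (x * t⁻¹ * x⁻¹) ∈ (R : Subgroup G) :=
      mul_mem hR ((Subgroup.mem_set_normalizer_iff.mp hxN _).mp (inv_mem hR))
    rw [show t * (x * t⁻¹ * x⁻¹) = t * x * t⁻¹ * x⁻¹ by group, htx] at hm
    have h2 := h.sq R _ hm
    refine hx1 (eq_one_of_orders (i := i) (j := 2) h.hp Nat.prime_two h.hp2 (dvd_of_eq hxi) ?_)
    rw [← orderOf_inv]
    refine orderOf_dvd_of_pow_eq_one ?_
    rw [← h2]; simp [pow_succ, mul_assoc]
  -- a conjugate of `v` lies in `P`
  obtain ⟨P₁, hP₁⟩ := (isPGroup_zpowers hv).exists_le_sylow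
  obtain ⟨g, hg⟩ := MulAction.exists_smul_eq G P₁ P
  have hgP : g * v * g⁻¹ ∈ (P : Subgroup G) := by
    rw [← hg, Sylow.coe_subgroup_smul]
    exact (Subgroup.mem_smul_pointwise_iff_exists _ _ _).mpr
      ⟨v, hP₁ (mem_zpowers v), by simp [MulAut.smul_def]⟩
  exact h.not_inverted (g • Q) (k := k) (by rw [orderOf_conj, hv]) (conj_centralizes Q g hvQ)
    (by rw [Ne, conj_eq_one_iff]; exact hv1) ht (h.inverts ht htP hfree hgP)

end Cfsg.Agent.Grp.MixedPrimes.Ctx
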