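import Mathlib
import Cfsg.Agent.Lib.Grp.MixedPrimes.CaseCentral

/-!
# Involution centralisers without elements of `p`-power order

A count of the involutions which do not commute with a given one gives a contradiction.
-/

namespace Cfsg.Agent.Grp.MixedPrimes.Ctx

open Subgroup

universe u

variable {G : Type u} [Group G] [Finite G] {p : ℕ}

/-- A Sylow subgroup containing a nontrivial element of `p`-power order which commutes with an
involution is the only one. -/
theorem sylow_unique (h : Ctx G p) {x w : G} {k : ℕ} (hx : orderOf x = p ^ k) (hx1 : x ≠ 1)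
    (hw : orderOf w = 2) (hxw : x * w = w * x) {P R : Sylow p G} (hP : x ∈ (P : Subgroup G))
    (hR : x ∈ (R : Subgroup G)) : P = R := by
  have := h.fact
  have : Fact (Nat.Prime 2) := ⟨Nat.prime_two⟩
  set C := centralizer ({x} : Set G) with hC
  have hCt := h.centralizer_ne_top hx1
  have hwC : w ∈ C := mem_cs.mpr hxw.symm
  have h2C : 2 ∣ Nat.card C := (dvd_of_eq hw.symm).trans (Subgroup.orderOf_dvd_natCard C hwC)
  obtain ⟨S, hS⟩ := Grp.exists_isSylowIn 2 C
  obtain ⟨Q, hSQ⟩ := hS.2.1.exists_le_sylow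
  have hsmall : Nat.card S < p + 1 := by
    by_contra hge
    have he : S = (Q : Subgroup G) := Subgroup.eq_of_le_of_card_ge hSQ (by
      have := h.cardQ Q
      change Nat.card (Q : Subgroup G) = p + 1 at this
      omega)
    exact hx1 (h.not_centralizes Q hx fun u hu =>
      (mem_cs.mp (hS.1 (he ▸ hu : u ∈ S))).symm)
  obtain ⟨O, -, hCO, hO2, hOall⟩ := exists_complement_in hS (by
    intro g hg hgS u hu
    have : g ∈ centralizer (S : Set G) := by
      refine h.mem_of_parts hCt h2C hg ?_ ?_ <;> rintro z hz hzg ⟨j, hj⟩ <;>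
        rw [Subgroup.mem_centralizer_iff] <;> intro v hv
      · have hzS : z ∈ S := by
          have hp' := (isPGroup_zpowers hj).to_sup_of_normal_right' hS.2.1
            (zpowers_le.mpr (zpowers_le.mpr hgS hzg))
          rw [hS.eq_of_le le_sup_right (sup_le (zpowers_le.mpr hz) hS.1) hp']
          exact mem_sup_left (mem_zpowers z)
        exact h.comm_sylow Q (hSQ hv) (hSQ hzS)
      · exact (h.small hsmall hj (zpowers_le.mpr hgS hzg) hv).symm
    exact (Subgroup.mem_centralizer_iff.mp this u hu).symm)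
  have hOp : IsPGroup p O := h.odd O w hw (hCO hwC) hO2
  obtain ⟨P₀, hP₀⟩ := hOp.exists_le_sylow
  have hall : ∀ T : Sylow p G, x ∈ (T : Subgroup G) → T = P₀ := by
    intro T hT
    have hle : (T : Subgroup G) ≤ (P₀ : Subgroup G) := fun y hy => by
      obtain ⟨j, hj⟩ := exists_orderOf_eq T.isPGroup' hy
      refine hP₀ (hOall y (mem_cs.mpr (h.comm _ T.isPGroup' y hy x hT)) fun hd => h.hp2 ?_)
      rw [hj] at hd
      exact ((Nat.prime_dvd_prime_iff_eq Nat.prime_two h.hp).mp
        (Nat.prime_two.dvd_of_dvd_pow hd)).symm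
    exact Sylow.ext (T.3 P₀.isPGroup' hle).symm
  rw [hall P hP, hall R hR]

omit [Finite G] in
theorem conj_mem_sylow_iff' [Fact p.Prime] (P : Sylow p G) (g y : G) :
    y ∈ ((g • P : Sylow p G) : Subgroup G) ↔ g⁻¹ * y * g ∈ (P : Subgroup G) := by
  rw [Sylow.coe_subgroup_smul, Subgroup.mem_pointwise_smul_iff_inv_smul_mem]
  simp [MulAut.smul_def]

/-- If no nontrivial element of `p`-power order commutes with an involution there is no
counterexample. -/
theorem false_of_free (h : Ctx G p)
    (hfree : ∀ (x w : G) (k : ℕ), orderOf x = p ^ k → orderOf w = 2 → x * w = w * x → x = 1) :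
    False := by
  classical
  have := h.fact
  have : Fact (Nat.Prime 2) := ⟨Nat.prime_two⟩
  obtain ⟨t, u₀, ht, hu₀, hne⟩ := h.exists_noncommuting
  obtain ⟨Q, htQ⟩ := h.exists_sylow_mem ht
  have ht1 := ne_one_of_two ht
  have ht2 := mul_self_of_two ht
  have hCt := h.centralizer_ne_top ht1
  -- the centraliser of `t` is `Q`
  have hCQ : centralizer ({t} : Set G) = (Q : Subgroup G) := by
    have h2C : 2 ∣ Nat.card (centralizer ({t} : Set G)) :=
      (dvd_of_eq ht.symm).trans (Subgroup.orderOf_dvd_natCard _ (mem_cs.mpr rfl))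
    have h2 : IsPGroup 2 (centralizer ({t} : Set G)) := isPGroup_of_primes fun l hl hd => by
      rcases h.proper _ hCt h2C l hl hd with e | e
      · exact e
      · exfalso
        have := Fact.mk hl
        obtain ⟨⟨y, hy⟩, hy2⟩ := exists_prime_orderOf_dvd_card' l hd
        rw [Subgroup.orderOf_mk] at hy2
        have := hfree y t 1 (by rw [pow_one, hy2, e]) ht (mem_cs.mp hy)
        rw [this, orderOf_one] at hy2
        exact hl.one_lt.ne hy2
    exact Q.3 h2 fun u hu => mem_cs.mpr (h.comm_sylow Q hu htQ)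
  -- `t` inverts the Sylow subgroups it normalises, which are centralisers of their elements
  have hnorm : ∀ P : Sylow p G, t ∈ normalizer ((P : Subgroup G) : Set G) →
      ∀ x ∈ (P : Subgroup G), t * x * t⁻¹ = x⁻¹ ∧
        (x ≠ 1 → centralizer ({x} : Set G) = (P : Subgroup G)) := by
    intro P hP x hx
    have hinv := h.inverts ht hP (fun y hy hyt => by
      obtain ⟨j, hj⟩ := exists_orderOf_eq P.isPGroup' hy
      exact hfree y t j hj ht hyt) hx
    refine ⟨hinv, fun hx1 => ?_⟩
    obtain ⟨j, hj⟩ := exists_orderOf_eq P.isPGroup' hx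
    obtain ⟨R, hR, -, -⟩ := h.sylow_of_odd_centralizer ht hj hinv fun w hw he =>
      hx1 (hfree x w j hj hw he.symm)
    rw [← hR]
    exact P.3 R.isPGroup' (by
      rw [hR]; exact fun y hy => mem_cs.mpr (h.comm _ P.isPGroup' y hy x hx))
  have exPt : ∀ u : G, orderOf u = 2 → t * u ≠ u * t → ∃ P : Sylow p G,
      t ∈ normalizer ((P : Subgroup G) : Set G) ∧ t * u ∈ (P : Subgroup G) := by
    intro u hu hne
    obtain ⟨x, k, hxz, hxk, hx1, htx, -⟩ := h.exists_inverted ht hu hne
    obtain ⟨P, hPe, htP, -⟩ := h.sylow_of_odd_centralizer ht hxk htx fun w hw he =>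
      hx1 (hfree x w k hxk hw he.symm)
    refine ⟨P, htP, ?_⟩
    rw [hPe, mem_cs]
    obtain ⟨n, rfl⟩ := Subgroup.mem_zpowers_iff.mp hxz
    exact (Commute.zpow_right (Commute.refl (t * u)) n).eq
  -- `F`: the Sylow subgroups normalised by `t`
  set F : Set (Sylow p G) := {P | t ∈ normalizer ((P : Subgroup G) : Set G)} with hF
  set N : Set G := {u | orderOf u = 2 ∧ t * u ≠ u * t} with hN
  have hp3 := h.two_le_p
  -- `p` divides `|N|`
  have hdvdN : p ∣ N.ncard := by
    have hall : {u : G | orderOf u = 2}.ncard = (centralizer ({t} : Set G)).index := by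
      let _ : MulAction G G := MulAction.compHom G (MulAut.conj : G →* MulAut G)
      have hst : MulAction.stabilizer G t = centralizer ({t} : Set G) := by
        ext g
        rw [MulAction.mem_stabilizer_iff, mem_cs]
        exact mul_inv_eq_iff_eq_mul
      rw [← hst, MulAction.index_stabilizer]
      congr 1
      ext u
      constructor
      · intro hu
        obtain ⟨c, hc⟩ := h.involutions_conj ht hu
        exact ⟨c, hc⟩
      · rintro ⟨c, rfl⟩
        show orderOf (c * t * c⁻¹) = 2
        rw [orderOf_conj, ht]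
    have hidx : p ∣ (centralizer ({t} : Set G)).index := by
      have hd := h.dvd
      rw [← Subgroup.card_mul_index (centralizer ({t} : Set G)), hCQ] at hd
      rw [hCQ]
      refine (h.hp.dvd_mul.mp hd).resolve_left fun hd => ?_
      have hc := h.cardQ Q
      change Nat.card (Q : Subgroup G) = p + 1 at hc
      rw [hc, Nat.dvd_add_right (dvd_refl p)] at hd
      exact h.hp.ne_one (Nat.dvd_one.mp hd)
    have hcom : {u : G | orderOf u = 2 ∧ t * u = u * t} = ((Q : Subgroup G) : Set G) \ {1} := by
      ext u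
      constructor
      · rintro ⟨hu, hc⟩
        exact ⟨by rw [SetLike.mem_coe, ← hCQ]; exact mem_cs.mpr hc.symm, ne_one_of_two hu⟩
      · rintro ⟨hu, hu1⟩
        exact ⟨h.orderOf_mem Q hu hu1, h.comm_sylow Q htQ hu⟩
    have hcomc : {u : G | orderOf u = 2 ∧ t * u = u * t}.ncard = p := by
      have h1 := Set.ncard_diff_singleton_add_one (show (1 : G) ∈ ((Q : Subgroup G) : Set G) from
        one_mem _) (Set.toFinite _)
      rw [hcom]
      rw [← Nat.card_coe_set_eq ((Q : Subgroup G) : Set G)] at h1
      have hc := h.cardQ Q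
      change Nat.card (Q : Subgroup G) = p + 1 at hc
      change _ = Nat.card (Q : Subgroup G) at h1
      omega
    have hsum : N.ncard + p = {u : G | orderOf u = 2}.ncard := by
      rw [← hcomc, ← Set.ncard_union_eq ?_ (Set.toFinite _) (Set.toFinite _)]
      · congr 1
        ext u
        simp only [hN, Set.mem_union, Set.mem_setOf_eq]
        tauto
      · rw [Set.disjoint_left]
        exact fun u hu hu' => hu.2 hu'.2
    rw [hall] at hsum
    exact (Nat.dvd_add_left (dvd_refl p)).mp (hsum ▸ hidx)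
  -- `N` is partitioned along `F`
  let f : (Σ P : F, {x : G // x ∈ ((P : Sylow p G) : Subgroup G) ∧ x ≠ 1}) → N := fun a =>
    ⟨t * a.2.1, by
      obtain ⟨hinv, -⟩ := hnorm a.1.1 a.1.2 a.2.1 a.2.2.1
      refine ⟨orderOf_two ?_ ?_, ?_⟩
      · calc t * a.2.1 * (t * a.2.1) = t * a.2.1 * t⁻¹ * a.2.1 := by
              rw [inv_of_two ht]; group
          _ = 1 := by rw [hinv, inv_mul_cancel]
      · intro e
        refine a.2.2.2 ?_
        have e2 : a.2.1 = t := by
          calc a.2.1 = t * t * a.2.1 := by rw [ht2, one_mul]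
            _ = t := by rw [mul_assoc, e, mul_one]
        obtain ⟨j, hj⟩ := exists_orderOf_eq a.1.1.isPGroup' a.2.2.1
        exact hfree _ t j hj ht (by rw [e2])
      · intro e
        refine a.2.2.2 ?_
        obtain ⟨j, hj⟩ := exists_orderOf_eq a.1.1.isPGroup' a.2.2.1
        refine hfree _ t j hj ht ?_
        rw [mul_assoc] at e
        exact (mul_left_cancel e).symm⟩
  have hf : Function.Bijective f := by
    refine ⟨?_, ?_⟩
    · rintro ⟨P, x⟩ ⟨P', x'⟩ e
      have hxx : x.1 = x'.1 := mul_left_cancel (congrArg Subtype.val e)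
      have hPP : P = P' := by
        refine Subtype.ext (Sylow.ext ?_)
        rw [← (hnorm P.1 P.2 x.1 x.2.1).2 x.2.2, ← (hnorm P'.1 P'.2 x'.1 x'.2.1).2 x'.2.2, hxx]
      subst hPP
      exact congrArg _ (Subtype.ext hxx)
    · rintro ⟨u, hu, hune⟩
      obtain ⟨P, htP, hz⟩ := exPt u hu hune
      exact ⟨⟨⟨P, htP⟩, ⟨t * u, hz, fun e => hune (by
        rw [e]
        calc (1 : G) = t * u * (t * u) := by rw [e, one_mul]
          _ = u * t := by
            have : u = t := by
              calc u = t * t * u := by rw [ht2, one_mul]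
                _ = t := by rw [mul_assoc, e, mul_one]
            rw [this, ht2, one_mul])⟩⟩, Subtype.ext (show t * (t * u) = u by
        rw [← mul_assoc, ht2, one_mul])⟩
  obtain ⟨P₁, hP₁, hz₁⟩ := exPt u₀ hu₀ hne
  have hn : ∀ P : F, Nat.card {x : G // x ∈ ((P : Sylow p G) : Subgroup G) ∧ x ≠ 1} + 1
      = Nat.card P₁ := by
    intro P
    have h1 := Set.ncard_diff_singleton_add_one
      (show (1 : G) ∈ (((P : Sylow p G) : Subgroup G) : Set G) from one_mem _) (Set.toFinite _)
    rw [← Nat.card_coe_set_eq, ← Nat.card_coe_set_eq (((P : Sylow p G) : Subgroup G) : Set G)] at h1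
    refine h1.trans ?_
    exact ((P : Sylow p G).card_eq_multiplicity).trans P₁.card_eq_multiplicity.symm
  have hcard : N.ncard + F.ncard = F.ncard * Nat.card P₁ := by
    have := Fintype.ofFinite F
    rw [← Nat.card_coe_set_eq N, ← Nat.card_eq_of_bijective f hf, Nat.card_sigma,
      ← Nat.card_coe_set_eq F, Nat.card_eq_fintype_card,
      show Fintype.card F = ∑ _P : F, 1 by simp, ← Finset.sum_add_distrib, Finset.sum_mul]
    exact Finset.sum_congr rfl fun P _ => by rw [hn P, one_mul]
  have hpP : p ∣ Nat.card P₁ := P₁.dvd_card_of_dvd_card h.dvd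
  have hpF : p ∣ F.ncard :=
    (Nat.dvd_add_right hdvdN).mp (hcard ▸ Dvd.dvd.mul_left hpP _)
  -- but `F` is an orbit of `Q`
  have horb : F = MulAction.orbit (Q : Subgroup G) P₁ := by
    ext R
    constructor
    · intro hR
      obtain ⟨g, hg⟩ := MulAction.exists_smul_eq G P₁ R
      -- `t` and its conjugate are conjugate in `N(P₁)`
      set t' := g⁻¹ * t * g with ht'
      have ht'2 : orderOf t' = 2 := by
        have := orderOf_conj g⁻¹ t
        rw [inv_inv] at this
        rw [ht', this, ht]
      have ht'P : t' ∈ normalizer ((P₁ : Subgroup G) : Set G) := by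
        rw [Subgroup.mem_set_normalizer_iff]
        intro y
        have h3 := Subgroup.mem_set_normalizer_iff.mp hR (g * y * g⁻¹)
        rw [SetLike.mem_coe, SetLike.mem_coe, ← hg, conj_mem_sylow_iff', conj_mem_sylow_iff'] at h3
        rw [show g⁻¹ * (g * y * g⁻¹) * g = y by group,
          show g⁻¹ * (t * (g * y * g⁻¹) * t⁻¹) * g = t' * y * t'⁻¹ by rw [ht']; group] at h3
        exact h3
      have hx₁ : t * u₀ ≠ 1 := fun e => hne (by
        have : u₀ = t := by
          calc u₀ = t * t * u₀ := by rw [ht2, one_mul]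
            _ = t := by rw [mul_assoc, e, mul_one]
        rw [this])
      set x := t * u₀ with hxdef
      have hw : t * t' ∈ (P₁ : Subgroup G) := by
        rw [← (hnorm P₁ hP₁ x hz₁).2 hx₁, mem_cs]
        have h1 := (hnorm P₁ hP₁ x hz₁).1
        have h2 := h.inverts ht'2 ht'P (fun y hy hyt => by
          obtain ⟨j, hj⟩ := exists_orderOf_eq P₁.isPGroup' hy
          exact hfree y t' j hj ht'2 hyt) hz₁
        have e : t * t' * x * (t * t')⁻¹ = x := by
          calc t * t' * x * (t * t')⁻¹ = t * (t' * x * t'⁻¹) * t⁻¹ := by group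
            _ = (t * x * t⁻¹)⁻¹ := by rw [h2]; group
            _ = x := by rw [h1, inv_inv]
        exact mul_inv_eq_iff_eq_mul.mp e
      obtain ⟨j, hj⟩ := exists_orderOf_eq P₁.isPGroup' hw
      obtain ⟨m, hm⟩ : Odd (p ^ j) := (h.hp.odd_of_ne_two h.hp2).pow
      set z := (t * t') ^ (m + 1) with hz
      have hzz : z * z = t * t' := by
        rw [hz, ← pow_add, show m + 1 + (m + 1) = p ^ j + 1 by omega, pow_succ, ← hj,
          pow_orderOf_eq_one, one_mul]
      have hzP : z ∈ (P₁ : Subgroup G) := pow_mem hw _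
      have hzt : z⁻¹ * t * z = t' := by
        have h1 := (hnorm P₁ hP₁ z hzP).1
        calc z⁻¹ * t * z = (t * z * t⁻¹) * t * z := by rw [h1]
          _ = t * (z * z) := by group
          _ = t' := by rw [hzz, ← mul_assoc, ht2, one_mul]
      have hc : g * z⁻¹ ∈ (Q : Subgroup G) := by
        rw [← hCQ, mem_cs]
        calc g * z⁻¹ * t = g * (z⁻¹ * t * z) * z⁻¹ := by group
          _ = t * (g * z⁻¹) := by rw [hzt, ht']; group
      refine ⟨⟨g * z⁻¹, hc⟩, ?_⟩
      show (g * z⁻¹) • P₁ = R
      rw [mul_smul, ← hg]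
      congr 1
      exact Sylow.smul_eq_iff_mem_normalizer.mpr (Subgroup.le_normalizer (inv_mem hzP))
    · rintro ⟨⟨c, hc⟩, rfl⟩
      show t ∈ normalizer (((c • P₁ : Sylow p G) : Subgroup G) : Set G)
      rw [Subgroup.mem_set_normalizer_iff]
      intro y
      rw [SetLike.mem_coe, SetLike.mem_coe, conj_mem_sylow_iff', conj_mem_sylow_iff']
      have hct : c⁻¹ * t * c = t := by
        rw [mul_assoc, ← h.comm_sylow Q hc htQ, inv_mul_cancel_left]
      rw [show c⁻¹ * (t * y * t⁻¹) * c = (c⁻¹ * t * c) * (c⁻¹ * y * c) * (c⁻¹ * t * c)⁻¹ by group,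
        hct]
      exact Subgroup.mem_set_normalizer_iff.mp hP₁ _
  have hQ2 : F.ncard ∣ p + 1 := by
    have := h.cardQ Q
    change Nat.card (Q : Subgroup G) = p + 1 at this
    rw [← this, horb, ← MulAction.index_stabilizer]
    exact Subgroup.index_dvd_card _
  have h1 := (Nat.dvd_add_right (dvd_refl p)).mp (hpF.trans hQ2)
  exact h.hp.ne_one (Nat.dvd_one.mp h1)

end Cfsg.Agent.Grp.MixedPrimes.Ctx
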