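import Mathlib
import Cfsg.Agent.Lib.Grp.MixedPrimes.CaseFree
import Cfsg.Agent.Lib.Grp.MixedPrimes.Friendship

/-!
# Involution centralisers with elements of `p`-power order

Here the involutions, joined when they commute, form a regular friendship graph.
-/

namespace Cfsg.Agent.Grp.MixedPrimes.Ctx

open Subgroup

universe u

variable {G : Type u} [Group G] [Finite G] {p : ℕ}

theorem false_of_fixed (h : Ctx G p) {x₀ w₀ : G} {k₀ : ℕ} (hx₀ : orderOf x₀ = p ^ k₀)
    (hw₀ : orderOf w₀ = 2) (hxw : x₀ * w₀ = w₀ * x₀) (hx₀1 : x₀ ≠ 1) : False := by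
  classical
  have := h.fact
  have : Fact (Nat.Prime 2) := ⟨Nat.prime_two⟩
  have ord : ∀ (g y : G) (k : ℕ), orderOf y = p ^ k → orderOf (g * y * g⁻¹) = p ^ k :=
    fun g y k hy => by rw [orderOf_conj, hy]
  -- the Sylow subgroup attached to an involution
  have hP : ∀ a : G, orderOf a = 2 → ∃ P : Sylow p G,
      (∃ x ∈ (P : Subgroup G), x ≠ 1 ∧ x * a = a * x) ∧
      (∀ (y : G) (j : ℕ), orderOf y = p ^ j → y * a = a * y → y ∈ (P : Subgroup G)) ∧
      ∀ g : G, g * a = a * g → g ∈ normalizer ((P : Subgroup G) : Set G) := by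
    intro a ha
    obtain ⟨c, hc⟩ := h.involutions_conj hw₀ ha
    set x := c * x₀ * c⁻¹ with hx
    have hxk : orderOf x = p ^ k₀ := ord c x₀ k₀ hx₀
    have hx1 : x ≠ 1 := by rw [hx, Ne, conj_eq_one_iff]; exact hx₀1
    have hxa : x * a = a * x := by
      rw [← hc, hx]
      calc c * x₀ * c⁻¹ * (c * w₀ * c⁻¹) = c * (x₀ * w₀) * c⁻¹ := by group
        _ = _ := by rw [hxw]; group
    obtain ⟨P, hP⟩ := (isPGroup_zpowers hxk).exists_le_sylow
    have hxP : x ∈ (P : Subgroup G) := hP (mem_zpowers x)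
    have hall : ∀ (y : G) (j : ℕ), orderOf y = p ^ j → y * a = a * y →
        y ∈ (P : Subgroup G) := by
      intro y j hy hya
      obtain ⟨R, hxR, hyR⟩ := h.exists_sylow_pair hxk hy (h.comm_centralizer ha hxk hy hxa hya)
      rw [h.sylow_unique hxk hx1 ha hxa hxP hxR]
      exact hyR
    refine ⟨P, ⟨x, hxP, hx1, hxa⟩, hall, fun g hg => ?_⟩
    have hga : g * x * g⁻¹ * a = a * (g * x * g⁻¹) := by
      have e : g⁻¹ * a = a * g⁻¹ := (Commute.inv_left hg).eq
      calc g * x * g⁻¹ * a = g * (x * (g⁻¹ * a)) := by group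
        _ = g * (x * a) * g⁻¹ := by rw [e]; group
        _ = g * (a * x) * g⁻¹ := by rw [hxa]
        _ = (g * a) * x * g⁻¹ := by group
        _ = a * (g * x * g⁻¹) := by rw [hg]; group
    have heq : g • P = P := h.sylow_unique (ord g x k₀ hxk)
      (by rw [Ne, conj_eq_one_iff]; exact hx1) ha hga
      (by rw [conj_mem_sylow_iff', show g⁻¹ * (g * x * g⁻¹) * g = x by group]; exact hxP)
      (hall _ _ (ord g x k₀ hxk) hga)
    exact Sylow.smul_eq_iff_mem_normalizer.mp heq
  choose S hS1 hS2 hS3 using hP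
  -- another involution commuting with `a` inverts the Sylow subgroup of `a`
  have hinv : ∀ (a b : G) (ha : orderOf a = 2), orderOf b = 2 → a ≠ b → a * b = b * a →
      ∀ x ∈ ((S a ha : Sylow p G) : Subgroup G), b * x * b⁻¹ = x⁻¹ := by
    intro a b ha hb hab hcm x hx
    refine h.inverts hb (hS3 a ha b hcm.symm) (fun y hy hyb => ?_) hx
    by_contra hy1
    obtain ⟨j, hj⟩ := exists_orderOf_eq (S a ha).isPGroup' hy
    have e1 : S a ha = S b hb := h.sylow_unique hj hy1 hb hyb hy (hS2 b hb y j hj hyb)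
    -- a common Sylow subgroup of `a` and `b`
    obtain ⟨Q, hQ⟩ := h.exists_sylow_mem ha
    have hab2 : ∃ R : Sylow 2 G, a ∈ (R : Subgroup G) ∧ b ∈ (R : Subgroup G) := by
      have hle : zpowers a ≤ normalizer (zpowers b : Set G) := by
        rw [zpowers_le, Subgroup.mem_set_normalizer_iff]
        intro z
        have hc : ∀ n : ℤ, a * b ^ n * a⁻¹ = b ^ n := fun n => by
          rw [(Commute.zpow_right hcm n).eq, mul_inv_cancel_right]
        constructor
        · rintro ⟨n, rfl⟩; exact ⟨n, (hc n).symm⟩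
        · rintro ⟨n, hn⟩
          refine ⟨n, ?_⟩
          show b ^ n = z
          have hn' : b ^ n = a * z * a⁻¹ := hn
          calc b ^ n = a⁻¹ * (a * b ^ n * a⁻¹) * a := by group
            _ = a⁻¹ * (a * z * a⁻¹) * a := by rw [hc n, hn']
            _ = z := by group
      obtain ⟨R, hR⟩ := ((isPGroup_zpowers (p := 2) (k := 1)
        (by rw [pow_one, ha])).to_sup_of_normal_right' (isPGroup_zpowers (p := 2) (k := 1)
        (by rw [pow_one, hb])) hle).exists_le_sylow
      exact ⟨R, hR (mem_sup_left (mem_zpowers a)), hR (mem_sup_right (mem_zpowers b))⟩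
    obtain ⟨R, haR, hbR⟩ := hab2
    obtain ⟨g, hgR, ⟨i, hi⟩, hgab⟩ := h.trans R a haR b hbR (ne_one_of_two ha) (ne_one_of_two hb)
    obtain ⟨x₁, hx₁, hx₁1, hx₁a⟩ := hS1 a ha
    obtain ⟨i₁, hi₁⟩ := exists_orderOf_eq (S a ha).isPGroup' hx₁
    have hgx : g * x₁ * g⁻¹ * b = b * (g * x₁ * g⁻¹) := by
      rw [← hgab]
      calc g * x₁ * g⁻¹ * (g * a * g⁻¹) = g * (x₁ * a) * g⁻¹ := by group
        _ = _ := by rw [hx₁a]; group
    have e2 : g • S a ha = S b hb := h.sylow_unique (ord g x₁ i₁ hi₁)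
      (by rw [Ne, conj_eq_one_iff]; exact hx₁1) hb hgx
      (by rw [conj_mem_sylow_iff', show g⁻¹ * (g * x₁ * g⁻¹) * g = x₁ by group]; exact hx₁)
      (hS2 b hb _ _ (ord g x₁ i₁ hi₁) hgx)
    rw [← e1] at e2
    have hgP : g ∈ ((S a ha : Sylow p G) : Subgroup G) :=
      mem_of_normalizes _ hi (Sylow.smul_eq_iff_mem_normalizer.mp e2)
    have hgQ : ∀ u ∈ (R : Subgroup G), g * u = u * g := by
      intro u hu
      have h1 : g * u * g⁻¹ * u⁻¹ ∈ (R : Subgroup G) :=
        mul_mem ((Subgroup.mem_set_normalizer_iff.mp hgR u).mp hu) (inv_mem hu)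
      have huN : u ∈ normalizer (((S a ha : Sylow p G) : Subgroup G) : Set G) :=
        hS3 a ha u (h.comm_sylow R hu haR)
      have h2 : g * (u * g⁻¹ * u⁻¹) ∈ ((S a ha : Sylow p G) : Subgroup G) :=
        mul_mem hgP ((Subgroup.mem_set_normalizer_iff.mp huN _).mp (inv_mem hgP))
      obtain ⟨i2, hi2⟩ := exists_orderOf_eq R.isPGroup' h1
      obtain ⟨j2, hj2⟩ := exists_orderOf_eq (S a ha).isPGroup' h2
      rw [show g * (u * g⁻¹ * u⁻¹) = g * u * g⁻¹ * u⁻¹ by group] at hj2
      exact mul_inv_eq_iff_eq_mul.mp (mul_inv_eq_one.mp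
        (eq_one_of_orders h.hp Nat.prime_two h.hp2 (dvd_of_eq hj2) (dvd_of_eq hi2)))
    rw [h.not_centralizes R hi hgQ] at hgab
    exact hab (by rw [← hgab]; group)
  -- of two further involutions in a Sylow subgroup through `a` the product is `a`
  have hprod : ∀ (R : Sylow 2 G) (a b c : G), a ∈ (R : Subgroup G) → b ∈ (R : Subgroup G) →
      c ∈ (R : Subgroup G) → a ≠ 1 → b ≠ 1 → c ≠ 1 → b ≠ a → c ≠ a → b ≠ c → b * c = a := by
    intro R a b c haR hbR hcR ha1 hb1 hc1 hba hca hbc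
    by_contra hne
    have ha := h.orderOf_mem R haR ha1
    have hd1 : b * c ≠ 1 := fun e => hbc (by
      rw [eq_inv_of_mul_eq_one_left e, inv_eq_of_mul_eq_one_right (h.sq R c hcR)])
    obtain ⟨x, hx, hx1, -⟩ := hS1 a ha
    obtain ⟨j, hj⟩ := exists_orderOf_eq (S a ha).isPGroup' hx
    have h1 := hinv a b ha (h.orderOf_mem R hbR hb1) (Ne.symm hba) (h.comm_sylow R haR hbR)
    have h2 := hinv a c ha (h.orderOf_mem R hcR hc1) (Ne.symm hca) (h.comm_sylow R haR hcR)
    have h3 := hinv a (b * c) ha (h.orderOf_mem R (mul_mem hbR hcR) hd1) (Ne.symm hne)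
      (h.comm_sylow R haR (mul_mem hbR hcR)) x hx
    refine hx1 (eq_one_of_inverted_of_fixed h.hp h.hp2 hj ?_)
    rw [← h3]
    calc b * c * x * (b * c)⁻¹ = b * (c * x * c⁻¹) * b⁻¹ := by group
      _ = (b * x * b⁻¹)⁻¹ := by rw [h2 x hx]; group
      _ = x := by rw [h1 x hx, inv_inv]
  have htwo : ∀ (a : G), orderOf a = 2 → ∃ (R : Sylow 2 G) (b c : G), a ∈ (R : Subgroup G) ∧
      b ∈ (R : Subgroup G) ∧ c ∈ (R : Subgroup G) ∧ b ≠ 1 ∧ c ≠ 1 ∧ b ≠ a ∧ c ≠ a ∧ b ≠ c := by
    intro a ha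
    obtain ⟨R, hR⟩ := h.exists_sylow_mem ha
    have hcard : Nat.card (R : Subgroup G) = p + 1 := h.cardQ R
    obtain ⟨b, hbR, hb1, hba⟩ : ∃ b ∈ (R : Subgroup G), b ≠ 1 ∧ b ≠ a := by
      by_contra hc
      push Not at hc
      have hsub : ((R : Subgroup G) : Set G) ⊆ {1, a} := fun x hx => by
        rcases eq_or_ne x 1 with e | e
        · exact Or.inl e
        · exact Or.inr (hc x hx e)
      have h1 := (Set.ncard_le_ncard hsub (Set.toFinite _)).trans (Set.ncard_insert_le _ _)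
      rw [← Nat.card_coe_set_eq, Set.ncard_singleton] at h1
      change Nat.card (R : Subgroup G) ≤ 2 at h1
      have := h.two_le_p
      omega
    have hbb := h.sq R b hbR
    have hne : a * b ≠ 1 := fun e => hba (by
      rw [← inv_eq_of_mul_eq_one_right e, inv_of_two ha])
    refine ⟨R, b, a * b, hR, hbR, mul_mem hR hbR, hb1, hne, hba, fun e => hb1 ?_,
      fun e => ne_one_of_two ha ?_⟩
    · exact mul_left_cancel (e.trans (mul_one a).symm)
    · exact mul_right_cancel (e.symm.trans (one_mul b).symm)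
  -- `a` centralises its Sylow subgroup
  have hfix : ∀ (a : G) (ha : orderOf a = 2), ∀ x ∈ ((S a ha : Sylow p G) : Subgroup G),
      x * a = a * x := by
    intro a ha x hx
    obtain ⟨R, b, c, haR, hbR, hcR, hb1, hc1, hba, hca, hbc⟩ := htwo a ha
    have h1 := hinv a b ha (h.orderOf_mem R hbR hb1) (Ne.symm hba) (h.comm_sylow R haR hbR) x hx
    have h2 := hinv a c ha (h.orderOf_mem R hcR hc1) (Ne.symm hca) (h.comm_sylow R haR hcR) x hx
    have e : a * x * a⁻¹ = x := by
      rw [← hprod R a b c haR hbR hcR (ne_one_of_two ha) hb1 hc1 hba hca hbc]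
      calc b * c * x * (b * c)⁻¹ = b * (c * x * c⁻¹) * b⁻¹ := by group
        _ = (b * x * b⁻¹)⁻¹ := by rw [h2]; group
        _ = x := by rw [h1, inv_inv]
    exact (mul_inv_eq_iff_eq_mul.mp e).symm
  -- a nontrivial element of `p`-power order commutes with exactly one involution
  have huniq : ∀ (s w x : G) (j : ℕ), orderOf s = 2 → orderOf w = 2 → orderOf x = p ^ j →
      x ≠ 1 → x * s = s * x → x * w = w * x → s = w := by
    intro s w x j hs hw hx hx1 hxs hxw'
    by_contra hne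
    have hxP := hS2 s hs x j hx hxs
    by_cases hc : s * w = w * s
    · have h1 := hinv s w hs hw hne hc x hxP
      rw [← hxw', mul_inv_cancel_right] at h1
      exact hx1 (eq_one_of_inverted_of_fixed h.hp h.hp2 hx h1.symm)
    · obtain ⟨y, i, hyz, hy, hy1, hsy, -⟩ := h.exists_inverted hs hw hc
      have hcz : y * x = x * y := by
        obtain ⟨n, rfl⟩ := Subgroup.mem_zpowers_iff.mp hyz
        exact ((Commute.mul_right hxs hxw').zpow_right n).eq.symm
      obtain ⟨R, hyR, hxR⟩ := h.exists_sylow_pair hy hx hcz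
      rw [← h.sylow_unique hx hx1 hs hxs hxP hxR] at hyR
      rw [← hfix s hs y hyR, mul_inv_cancel_right] at hsy
      exact hy1 (eq_one_of_inverted_of_fixed h.hp h.hp2 hy hsy.symm)
  -- every Sylow subgroup is centralised by an involution
  have hall : ∀ P : Sylow p G, ∃ s : G, orderOf s = 2 ∧ ∀ x ∈ (P : Subgroup G), x * s = s * x := by
    intro P
    obtain ⟨g, hg⟩ := MulAction.exists_smul_eq G (S w₀ hw₀) P
    refine ⟨g * w₀ * g⁻¹, by rw [orderOf_conj, hw₀], fun x hx => ?_⟩
    rw [← hg, conj_mem_sylow_iff'] at hx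
    calc x * (g * w₀ * g⁻¹) = g * (g⁻¹ * x * g * w₀) * g⁻¹ := by group
      _ = g * w₀ * g⁻¹ * x := by rw [hfix w₀ hw₀ _ hx]; group
  -- the graph of commuting involutions
  set Rel : {a : G // orderOf a = 2} → {a : G // orderOf a = 2} → Prop :=
    fun a b => a ≠ b ∧ (a : G) * b = b * a with hRel
  have : Nonempty {a : G // orderOf a = 2} := ⟨⟨w₀, hw₀⟩⟩
  have hd : ∀ a, {b | Rel a b}.ncard = {b | Rel ⟨w₀, hw₀⟩ b}.ncard := by
    intro a
    obtain ⟨c, hc⟩ := h.involutions_conj hw₀ a.2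
    refine (Set.ncard_congr (fun b _ => (⟨c * b.1 * c⁻¹, by rw [orderOf_conj, b.2]⟩ :
      {a : G // orderOf a = 2})) ?_ ?_ ?_).symm
    · rintro b ⟨hne, hcm⟩
      refine ⟨fun e => hne ?_, ?_⟩
      · have e' : (a : G) = c * b.1 * c⁻¹ := congrArg Subtype.val e
        rw [← hc] at e'
        exact Subtype.ext (mul_left_cancel (mul_right_cancel e'))
      · show (a : G) * (c * b.1 * c⁻¹) = c * b.1 * c⁻¹ * a
        rw [← hc]
        calc c * w₀ * c⁻¹ * (c * b.1 * c⁻¹) = c * (w₀ * b.1) * c⁻¹ := by group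
          _ = _ := by rw [show w₀ * b.1 = b.1 * w₀ from hcm]; group
    · intro b b' _ _ e
      exact Subtype.ext (mul_left_cancel (mul_right_cancel (congrArg Subtype.val e)))
    · rintro b ⟨hne, hcm⟩
      refine ⟨⟨c⁻¹ * b.1 * c, by
        have := orderOf_conj c⁻¹ b.1
        rw [inv_inv] at this
        rw [this, b.2]⟩, ⟨fun e => hne ?_, ?_⟩, Subtype.ext (by
          show c * (c⁻¹ * b.1 * c) * c⁻¹ = b.1
          group)⟩
      · have e' : w₀ = c⁻¹ * b.1 * c := congrArg Subtype.val e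
        apply Subtype.ext
        rw [← hc, e']; group
      · show w₀ * (c⁻¹ * b.1 * c) = c⁻¹ * b.1 * c * w₀
        have hcm' : (a : G) * b.1 = b.1 * a := hcm
        rw [← hc] at hcm'
        calc w₀ * (c⁻¹ * b.1 * c) = c⁻¹ * (c * w₀ * c⁻¹ * b.1) * c := by group
          _ = _ := by rw [hcm']; group
  have hlt := no_friendship Rel (fun a b hab => ⟨hab.1.symm, hab.2.symm⟩) (fun a ha => ha.1 rfl)
    _ hd ?_
  · -- each involution has at least three neighbours
    obtain ⟨R, b, c, haR, hbR, hcR, hb1, hc1, hba, hca, hbc⟩ := htwo w₀ hw₀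
    obtain ⟨x, hx, hx1, -⟩ := hS1 w₀ hw₀
    obtain ⟨j, hj⟩ := exists_orderOf_eq (S w₀ hw₀).isPGroup' hx
    have hxw := hfix w₀ hw₀ x hx
    have hb := h.orderOf_mem R hbR hb1
    have hc2 := h.orderOf_mem R hcR hc1
    have hbx := hinv w₀ b hw₀ hb (Ne.symm hba) (h.comm_sylow R haR hbR) x hx
    set d := x * b * x⁻¹ with hd'
    have hd2 : orderOf d = 2 := by rw [hd', orderOf_conj, hb]
    have hxinv : ∀ {y : G}, x * y * x⁻¹ = y → x * y = y * x := fun e =>
      mul_inv_eq_iff_eq_mul.mp e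
    have hdb : d ≠ b := fun e => hx1 (eq_one_of_inverted_of_fixed h.hp h.hp2 hj (by
      rw [← hbx, ← hxinv e, mul_inv_cancel_right]))
    have hdc : d ≠ c := fun e => by
      -- otherwise `x` maps `R` to itself
      have hbc' := hprod R w₀ b c haR hbR hcR (ne_one_of_two hw₀) hb1 hc1 hba hca hbc
      have h4 : x⁻¹ ^ 2 = w₀ := by
        rw [← hbc', ← e, hd', pow_two]
        calc x⁻¹ * x⁻¹ = b * x * b⁻¹ * x⁻¹ := by rw [hbx]
          _ = b * (x * b * x⁻¹) := by rw [inv_of_two hb]; group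
      have h5 : orderOf w₀ ∣ p ^ j := by
        rw [← h4, ← hj]
        exact orderOf_dvd_of_pow_eq_one (by
          rw [inv_pow, inv_pow, ← pow_mul, mul_comm, pow_mul, pow_orderOf_eq_one, one_pow, inv_one])
      rw [hw₀] at h5
      exact h.hp2 ((Nat.prime_dvd_prime_iff_eq Nat.prime_two h.hp).mp
        (Nat.prime_two.dvd_of_dvd_pow h5)).symm
    have hda : d ≠ w₀ := fun e => hba (by
      have e' : x * b * x⁻¹ = x * w₀ * x⁻¹ := by
        rw [← hd', e, hxw, mul_inv_cancel_right]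
      exact mul_left_cancel (mul_right_cancel e'))
    have hdw : w₀ * d = d * w₀ := by
      rw [hd']
      have e1 : x⁻¹ * w₀ = w₀ * x⁻¹ := (Commute.inv_left hxw).eq
      calc w₀ * (x * b * x⁻¹) = (w₀ * x) * b * x⁻¹ := by group
        _ = x * (w₀ * b) * x⁻¹ := by rw [← hxw]; group
        _ = x * (b * w₀) * x⁻¹ := by rw [h.comm_sylow R haR hbR]
        _ = x * b * (w₀ * x⁻¹) := by group
        _ = x * b * x⁻¹ * w₀ := by rw [← e1]; group
    let A : Set {a : G // orderOf a = 2} := {⟨b, hb⟩, ⟨c, hc2⟩, ⟨d, hd2⟩}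
    have hsub : A ⊆ {b | Rel ⟨w₀, hw₀⟩ b} := by
      rintro y (rfl | rfl | rfl)
      · exact ⟨fun e => hba (congrArg Subtype.val e).symm, h.comm_sylow R haR hbR⟩
      · exact ⟨fun e => hca (congrArg Subtype.val e).symm, h.comm_sylow R haR hcR⟩
      · exact ⟨fun e => hda (congrArg Subtype.val e).symm, hdw⟩
    have hA : A.ncard = 3 := Set.ncard_eq_three.mpr ⟨_, _, _,
      fun e => hbc (congrArg Subtype.val e), fun e => hdb (congrArg Subtype.val e).symm,
      fun e => hdc (congrArg Subtype.val e).symm, rfl⟩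
    have := Set.ncard_le_ncard hsub (Set.toFinite _)
    omega
  -- exactly one common neighbour
  rintro ⟨u, hu⟩ ⟨v, hv⟩ hne
  have huv : u ≠ v := fun e => hne (Subtype.ext e)
  rw [Set.ncard_eq_one]
  by_cases hc : u * v = v * u
  · have hvu1 : v * u ≠ 1 := fun e => huv (by
      rw [← inv_eq_of_mul_eq_one_right e, inv_of_two hv])
    have hw2 : orderOf (v * u) = 2 := orderOf_two (by
      calc v * u * (v * u) = v * u * (u * v) := by rw [hc]
        _ = v * (u * u) * v := by group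
        _ = 1 := by rw [mul_self_of_two hu, mul_one, mul_self_of_two hv]) hvu1
    refine ⟨⟨v * u, hw2⟩, Set.eq_singleton_iff_unique_mem.mpr ⟨?_, ?_⟩⟩
    · refine ⟨⟨fun e => ?_, ?_⟩, ⟨fun e => ?_, ?_⟩⟩
      · exact ne_one_of_two hv (mul_right_cancel
          ((congrArg Subtype.val e).symm.trans (one_mul u).symm))
      · show u * (v * u) = v * u * u
        rw [← mul_assoc, hc]
      · exact ne_one_of_two hu (mul_left_cancel
          ((congrArg Subtype.val e).symm.trans (mul_one v).symm))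
      · show v * (v * u) = v * u * v
        rw [mul_assoc v u v, hc]
    · rintro ⟨w, hw⟩ ⟨⟨hwu, hwu'⟩, ⟨hwv, hwv'⟩⟩
      apply Subtype.ext
      show w = v * u
      have hwu' : u * w = w * u := hwu'
      have hwv' : v * w = w * v := hwv'
      have hKc : ∀ y ∈ ({u, v, w} : Set G), ∀ z ∈ ({u, v, w} : Set G), y * z = z * y := by
        rintro y (rfl | rfl | rfl) z (rfl | rfl | rfl) <;>
          first | rfl | exact hc | exact hc.symm | exact hwu' | exact hwu'.symm | exact hwv' |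
            exact hwv'.symm
      set K := Subgroup.closure ({u, v, w} : Set G) with hK
      have hKcm := Subgroup.isMulCommutative_closure hKc
      have hKp : IsPGroup 2 K := by
        rintro ⟨y, hy⟩
        refine ⟨1, Subtype.ext ?_⟩
        show y ^ 2 ^ 1 = 1
        induction hy using Subgroup.closure_induction with
        | mem z hz =>
          rcases hz with rfl | rfl | rfl <;> rw [pow_one, pow_two] <;>
            exact mul_self_of_two (by assumption)
        | one => simp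
        | mul z z' hz hz' ihz ihz' =>
          have : Commute z z' := congrArg Subtype.val (hKcm.is_comm.comm ⟨z, hz⟩ ⟨z', hz'⟩)
          rw [this.mul_pow, ihz, ihz', one_mul]
        | inv z _ ihz => rw [inv_pow, ihz, inv_one]
      obtain ⟨R, hR⟩ := hKp.exists_le_sylow
      have e := hprod R u v w (hR (Subgroup.subset_closure (by simp)))
        (hR (Subgroup.subset_closure (by simp))) (hR (Subgroup.subset_closure (by simp)))
        (ne_one_of_two hu) (ne_one_of_two hv) (ne_one_of_two hw) (Ne.symm huv)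
        (fun e => hwu (Subtype.ext e.symm)) (fun e => hwv (Subtype.ext e))
      rw [← e, ← mul_assoc, mul_self_of_two hv, one_mul]
  · obtain ⟨x, j, hxz, hx, hx1, hux, hvx⟩ := h.exists_inverted hu hv hc
    obtain ⟨P, hP⟩ := (isPGroup_zpowers hx).exists_le_sylow
    obtain ⟨s, hs, hsP⟩ := hall P
    have hxs : x * s = s * x := hsP x (hP (mem_zpowers x))
    have hconj : ∀ t : G, orderOf t = 2 → t * x * t⁻¹ = x⁻¹ → t ≠ s ∧ t * s = s * t := by
      intro t ht htx
      refine ⟨fun e => hx1 ?_, ?_⟩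
      · rw [e, ← hxs, mul_inv_cancel_right] at htx
        exact eq_one_of_inverted_of_fixed h.hp h.hp2 hx htx.symm
      · have e1 : x⁻¹ * (t * s * t⁻¹) = t * s * t⁻¹ * x⁻¹ := by
          rw [← htx]
          calc t * x * t⁻¹ * (t * s * t⁻¹) = t * (x * s) * t⁻¹ := by group
            _ = _ := by rw [hxs]; group
        exact mul_inv_eq_iff_eq_mul.mp (huniq s (t * s * t⁻¹) x j hs
          (by rw [orderOf_conj, hs]) hx hx1 hxs (Commute.inv_left_iff.mp e1).eq).symm
    refine ⟨⟨s, hs⟩, Set.eq_singleton_iff_unique_mem.mpr ⟨?_, ?_⟩⟩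
    · exact ⟨⟨fun e => (hconj u hu hux).1 (congrArg Subtype.val e), (hconj u hu hux).2⟩,
        ⟨fun e => (hconj v hv hvx).1 (congrArg Subtype.val e), (hconj v hv hvx).2⟩⟩
    · rintro ⟨w, hw⟩ ⟨⟨-, hwu'⟩, ⟨-, hwv'⟩⟩
      refine Subtype.ext (huniq s w x j hs hw hx hx1 hxs ?_).symm
      obtain ⟨n, rfl⟩ := Subgroup.mem_zpowers_iff.mp hxz
      exact (Commute.zpow_left (Commute.mul_left hwu' hwv') n).eq

theorem false_of_ctx (h : Ctx G p) : False := by
  by_cases hf : ∀ (x w : G) (k : ℕ), orderOf x = p ^ k → orderOf w = 2 → x * w = w * x → x = 1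
  · exact h.false_of_free hf
  · push Not at hf
    obtain ⟨x, w, k, hx, hw, hxw, hx1⟩ := hf
    exact h.false_of_fixed hx hw hxw hx1

end Cfsg.Agent.Grp.MixedPrimes.Ctx
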