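import Mathlib
import Cfsg.Agent.Lib.Grp.MixedPrimes.CaseFixed

/-!
# Groups in which `p` divides every mixed subgroup, `p ≥ q^a - 1`
-/

namespace Cfsg.Agent.Grp.MixedPrimes

open Subgroup

universe u

theorem primes_eq : ∀ (n : ℕ) (G : Type u) [Group G] [Finite G], Nat.card G = n →
    ∀ {p q : ℕ}, p.Prime → q.Prime → p ≠ q → p ≠ 2 → p ∣ Nat.card G → q ∣ Nat.card G →
    (∀ H : Subgroup G, H ≠ ⊤ → ¬ IsPGroup q H → q ∣ Nat.card H → p ∣ Nat.card H) →
    (q ^ (Nat.card G).factorization q - 1 < p ∨
      (p = q ^ (Nat.card G).factorization q - 1 ∧ ∀ P : Sylow p G, IsMulCommutative P)) →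
    ∀ r : ℕ, r.Prime → r ∣ Nat.card G → r = p ∨ r = q := by
  intro n
  induction n using Nat.strong_induction_on with
  | _ n ih =>
    intro G _ _ hn p q hp hq hpq hp2 hpG hqG hmix hlarge r hr hrG
    by_contra hne
    push Not at hne
    obtain ⟨rfl, hctx⟩ := ctx_of_counterexample hp hq hpq hp2 hpG hqG hmix hlarge hr hrG hne.1
      hne.2 (by
      intro H hH hpH hqH hcomm l hl hlH
      have hlt : Nat.card H < n := by rw [← hn]; exact Grp.card_lt_of_ne_top hH
      refine ih _ hlt H rfl hp hq hpq hp2 hpH hqH (fun K hK hKq hqK => ?_) ?_ l hl hlH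
      · have hc : Nat.card (K.map H.subtype) = Nat.card K :=
          Subgroup.card_map_of_injective (Subgroup.subtype_injective _)
        rw [← hc]
        refine hmix _ (fun e => hH (top_le_iff.mp (e ▸ Subgroup.map_subtype_le K))) (fun hq' => ?_)
          (by rwa [hc])
        exact hKq (hq'.of_equiv (K.equivMapOfInjective _ (Subgroup.subtype_injective _)).symm)
      · have hle : (Nat.card H).factorization q ≤ (Nat.card G).factorization q :=
          (Nat.factorization_le_iff_dvd Nat.card_pos.ne' Nat.card_pos.ne').mpr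
            H.card_subgroup_dvd_card q
        have hpow := Nat.pow_le_pow_right hq.pos hle
        rcases Nat.lt_or_ge (q ^ (Nat.card H).factorization q - 1) p with h1 | h1
        · exact Or.inl h1
        · right
          refine ⟨by rcases hlarge with h2 | ⟨h2, -⟩ <;> omega, fun P => ⟨⟨fun x y => ?_⟩⟩⟩
          exact Subtype.ext (Subtype.ext (hcomm _ (P.isPGroup'.map H.subtype) _
            (Subgroup.mem_map_of_mem _ x.2) _ (Subgroup.mem_map_of_mem _ y.2))))
    exact hctx.false_of_ctx

end Cfsg.Agent.Grp.MixedPrimes
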